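import Cfsg.Agent.TvFree.SmallCases

/-!
# Irreducible overgroups of a large transvection-free subgroup of the radical
-/

set_option autoImplicit false
set_option linter.unusedSectionVars false

namespace CfsgLib.TvFree

open Matrix Cfsg CfsgLib.Geo CfsgLib.Geo.SpTv
open CfsgLib.Symp (form form_add_left form_add_right form_smul_left form_smul_right form_self
  form_zero_left form_zero_right)

variable {n : ℕ} {F : Type*} [Field F] [CharP F 2] [Fintype F]

local notation "E" => Fin n ⊕ Fin n → F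
local notation "G" => GL (Fin n ⊕ Fin n) F
local notation "fm" => CfsgLib.Symp.form (l := Fin n) (R := F)

/-- The classification of irreducible groups containing a section. -/
theorem classification {L : Subgroup G} {a b : E} {φ : E → F} (hn : 2 ≤ n) (hLs : L ≤ spGL n F) (hI : Irr L)
    (hab0 : fm a b = 1) (ha : Sec L a φ) :
    L = spGL n F ∨
      (∃ Q : QuadraticForm F (Fin n ⊕ Fin n → F), (∀ u v, QuadraticMap.polar ⇑Q u v = fm u v) ∧
        (L = Cfsg.isometryGroup F ⇑Q ∨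
          ∀ g : G, g ∈ L ↔ (g ∈ Cfsg.isometryGroup F ⇑Q ∧
            Even ((g : Matrix (Fin n ⊕ Fin n) (Fin n ⊕ Fin n) F) - 1).rank))) ∨
      (Fintype.card F = 2 ∧ n = 2 ∧
        (Nonempty (L ≃* alternatingGroup (Fin 6)) ∨ Nonempty (L ≃* Equiv.Perm (Fin 5)))) := by
  have ha0 : a ≠ 0 := fun h => by simp [h, form_zero_left] at hab0
  by_cases hL : NoTv L
  swap
  · rcases transvection_case hn hLs hI ha ha0 hL with h | ⟨b, α, hα, P, hT⟩
    · exact Or.inl (le_antisymm hLs h)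
    · rcases P.trans_final hn hLs ha hα hT with h | h
      · exact Or.inl h
      · exact Or.inr (Or.inl ⟨P.qf, P.polar_qf, Or.inl h⟩)
  -- a second centre in the orbit
  obtain ⟨g, hg, hμ⟩ := hI.exists_moved ha0 ha0
  obtain ⟨ψ, hb⟩ : ∃ ψ, Sec L ((fm a (act g a))⁻¹ • act g a) ψ :=
    ⟨_, (ha.conj hLs hg).smul (inv_ne_zero hμ)⟩
  set b := (fm a (act g a))⁻¹ • act g a with hbd
  have hab : fm a b = 1 := by rw [hbd, form_smul_right, inv_mul_cancel₀ hμ]
  by_cases hbig : (∃ t : F, t ≠ 0 ∧ t ≠ 1) ∨ 3 ≤ n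
  · obtain ⟨P, hψ⟩ := notv_pair hn hLs hL hbig ha hb hab
    have hle := P.le_iso_of_notv hn hLs hL hbig ha hb hψ
    exact Or.inr (Or.inl ⟨P.qf, P.polar_qf, Or.inr (P.notv_final hn hL (P.even_gen hbig) hle)⟩)
  push Not at hbig
  obtain ⟨hF, hn3⟩ := hbig
  have hn2 : n = 2 := by omega
  have hF' : ∀ t : F, t = 0 ∨ t = 1 := fun t => or_iff_not_imp_left.2 (hF t)
  have hq : Fintype.card F = 2 := by
    classical
    rw [← Finset.card_univ, show (Finset.univ : Finset F) = {0, 1} by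
      ext t; simpa using hF' t, Finset.card_pair zero_ne_one]
  have hgb : ∃ g' ∈ L, act g' a = b := by
    refine ⟨g, hg, ?_⟩
    rw [hbd, (hF' _).resolve_left hμ, inv_one, one_smul]
  rcases agree_or_mixed hn2 hLs hL hF' ha hb hab with hψ | ⟨v₁, v₂, M⟩
  · have hsm : ∀ μ : F, ∀ w ∈ perp2 a b, φ (μ • w) = μ ^ 2 * φ w := fun μ w _ => by
      rcases hF' μ with h | h <;> simp [h, ha.zero]
    let P : Pair L a b φ :=
      ⟨hab, fun w hw => ha.mem w hw.1, fun w hw => hψ w hw ▸ hb.mem w hw.2,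
        fun u hu v hv => ha.add u v hu.1 hv.1, hsm⟩
    by_cases hle : L ≤ P.iso
    · exact Or.inr (Or.inl ⟨P.qf, P.polar_qf, Or.inr (P.notv_final hn hL (P.even_gen_small hn2 hF') hle)⟩)
    obtain ⟨g1, hg1, hε⟩ := eq_top_or_exists_sing_moved P hn hLs hle
    have hone : ∀ x, P.qf x ≠ 0 → P.qf x = 1 := fun x hx => (hF' _).resolve_left hx
    obtain ⟨m1, hm1, hm1e⟩ := P.move_nonsing hn hε
    have htr : ∀ x : E, x ≠ 0 → ∃ k ∈ L, act k a = x := by
      intro x hx
      by_cases hq0 : P.qf x = 0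
      · obtain ⟨m, hm, hme⟩ := P.move_sing hn hx hq0
        exact ⟨m, P.gen_le hm, hme⟩
      · obtain ⟨m, hm, hme⟩ := P.move_nonsing hn hq0
        rw [hone x hq0] at hme
        rw [hone _ hε] at hm1e
        refine ⟨m * (m1⁻¹ * g1), L.mul_mem (P.gen_le hm) (L.mul_mem (L.inv_mem (P.gen_le hm1)) hg1), ?_⟩
        rw [act_mul, act_mul, ← hm1e, act_inv', hme]
    exact Or.inr (Or.inr ⟨hq, hn2, classify hn2 hq hLs hL ha0 (sixty_dvd hn2 hq ha hab htr)
      (P.card_ne ha hn2 hq htr)⟩)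
  · have htr := M.transitive hn2 hF' hgb
    exact Or.inr (Or.inr ⟨hq, hn2, classify hn2 hq hLs hL ha0 (sixty_dvd hn2 hq ha hab htr)
      (M.card_ne hn2 hq htr)⟩)

end CfsgLib.TvFree
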