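import Cfsg.Agent.TvFree.Gen

/-!
# The overgroups of a section: identification
-/

set_option autoImplicit false
set_option linter.unusedSectionVars false

namespace CfsgLib.TvFree

open Matrix Cfsg CfsgLib.Geo CfsgLib.Geo.SpTv CfsgLib.Quad
open CfsgLib.Symp (form form_add_left form_add_right form_smul_left form_smul_right form_self
  form_zero_left form_zero_right)

variable {n : ℕ} {F : Type*} [Field F] [CharP F 2] [Finite F]

local notation "E" => Fin n ⊕ Fin n → F
local notation "G" => GL (Fin n ⊕ Fin n) F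
local notation "fm" => CfsgLib.Symp.form (l := Fin n) (R := F)

variable {L : Subgroup (GL (Fin n ⊕ Fin n) F)} {a b : Fin n ⊕ Fin n → F}
  {φ ψ : (Fin n ⊕ Fin n → F) → F}

theorem eq_top_or_exists_sing_moved (P : Pair L a b φ) (hn : 2 ≤ n) (hLs : L ≤ spGL n F)
    (hnot : ¬ L ≤ P.iso) : ∃ g ∈ L, P.qf (act g a) ≠ 0 := by
  by_contra hc
  push Not at hc
  refine hnot fun g hg => P.mem_iso_of_sing (hLs hg) fun c hq => ?_
  by_cases hc0 : c = 0
  · simp [hc0, act]
  obtain ⟨m, hm, rfl⟩ := P.move_sing hn hc0 hq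
  rw [← act_mul]
  exact hc _ (L.mul_mem hg (P.gen_le hm))

/-- Groups with a pair and a transvection are symplectic or orthogonal. -/
theorem Pair.trans_final (P : Pair L a b φ) (hn : 2 ≤ n) (hLs : L ≤ spGL n F) (ha : Sec L a φ) {α : F}
    (hα : α ≠ 0) (hT : stv (b + α⁻¹ • a) α ∈ L) : L = spGL n F ∨ L = P.iso := by
  have hrefl : ∀ x, P.qf x ≠ 0 → stv x (P.qf x)⁻¹ ∈ L := by
    intro x hx
    set ε := P.qf x
    obtain ⟨ν, hν⟩ := exists_sq (ε * α)
    have hν0 : ν ≠ 0 := fun h => mul_ne_zero hx hα (by rw [← hν, h, zero_pow two_ne_zero])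
    obtain ⟨t, ht, hta, htb⟩ := P.exists_torus hn hν0
    obtain ⟨m, hm, hmx⟩ := P.move_nonsing hn hx
    have h1 := stv_conj_mem hLs (P.gen_le ht) hT
    have e : act t (b + α⁻¹ • a) = ν⁻¹ • (b + ε • a) := by
      rw [act_add, act_smul, hta, htb, smul_add, smul_smul, smul_smul]
      congr 2
      field_simp
      linear_combination hν
    rw [e, stv_smul, show ν⁻¹ ^ 2 * α = ε⁻¹ by rw [inv_pow, hν]; field_simp] at h1
    have h2 := stv_conj_mem hLs (P.gen_le hm) h1
    rwa [hmx] at h2
  by_cases hle : L ≤ P.iso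
  · exact Or.inr (le_antisymm hle (P.iso_le hn P.gen_le hrefl))
  · obtain ⟨g, hg, hε⟩ := eq_top_or_exists_sing_moved P hn hLs hle
    have h1 := stv_conj_mem hLs (L.inv_mem hg) (hrefl _ hε)
    rw [act_inv'] at h1
    have hfull : Full L a := fun c => by
      obtain ⟨ν, hν⟩ := exists_sq (c * P.qf (act g a))
      by_cases hν0 : ν = 0
      · have : c = 0 := by
          rw [hν0, zero_pow two_ne_zero] at hν
          exact (mul_eq_zero.1 hν.symm).resolve_right hε
        rw [this, stv_zero_right]; exact L.one_mem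
      obtain ⟨t, ht, hta, -⟩ := P.exists_torus hn hν0
      have h2 := stv_conj_mem hLs (P.gen_le ht) h1
      rwa [hta, stv_smul, hν, mul_assoc, mul_inv_cancel₀ hε, mul_one] at h2
    refine Or.inl (le_antisymm hLs (top_of_full hLs ha (b := b + (1 : F) • a) ?_ hfull one_ne_zero ?_))
    · rw [form_add_right, P.hab, form_smul_right, form_self, mul_zero, add_zero]
    · have := hrefl _ (by rw [P.qf_ba]; exact one_ne_zero)
      rwa [P.qf_ba, inv_one] at this

/-- Without transvections a group with two sections preserves the form, apart from `Sp₄(2)`. -/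
theorem Pair.le_iso_of_notv (hn : 2 ≤ n) (hLs : L ≤ spGL n F) (hL : NoTv L)
    (hbig : (∃ t : F, t ≠ 0 ∧ t ≠ 1) ∨ 3 ≤ n) (ha : Sec L a φ) (hb : Sec L b ψ) (P : Pair L a b φ)
    (hψ : ∀ w ∈ perp2 a b, ψ w = φ w) : L ≤ P.iso := by
  by_contra hle
  obtain ⟨g, hg, hε⟩ := eq_top_or_exists_sing_moved P hn hLs hle
  set ε := P.qf (act g a) with hεd
  obtain ⟨m, hm, hme⟩ := P.move_nonsing hn hε
  set e := b + ε • a with hed
  have he := ha.conj hLs (L.mul_mem (L.inv_mem (P.gen_le hm)) hg)
  rw [show act (m⁻¹ * g) a = e by rw [act_mul, ← hme, act_inv']] at he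
  set χ : E → F := fun w => φ (act (m⁻¹ * g)⁻¹ w)
  have hae : fm a e = 1 := by
    rw [hed, form_add_right, form_smul_right, form_self, P.hab, mul_zero, add_zero]
  have hce : ∀ z ∈ perp2 a b, φ z = ε → z ≠ 0 → fm (b + z + ε • a) e = 0 ∧ e ∉ F ∙ (b + z + ε • a) ∧
      Sec L (b + z + ε • a) (fun w => ψ (act (sg a z ε) w)) ∧ ψ (act (sg a z ε) e) = ε := by
    intro z hz hφz hz0
    have hA := ha.mem z hz.1
    rw [hφz] at hA
    have hc := hb.conj hLs hA
    rw [sg_inv hz.1, act_sg_b P.hab hz] at hc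
    refine ⟨?_, ?_, hc, ?_⟩
    · simp only [hed, form_add_left, form_add_right, form_smul_left, form_smul_right, form_self, P.hab, P.hba,
        hz.1, hz.2, fm_comm a z]
      ring_nf
      simp [two_zero]
    · intro h
      obtain ⟨t, ht⟩ := Submodule.mem_span_singleton.1 h
      have e1 := congrArg (fun v => fm v a) ht
      simp only [hed, form_smul_left, form_add_left, form_self, P.hba, hz.1, mul_zero, add_zero, mul_one] at e1
      rw [e1, one_smul] at ht
      exact hz0 (add_eq_left.1 (add_right_cancel ht))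
    · rw [hed, act_add, act_smul, act_sg_b P.hab hz, act_sg hz.1 ε a, form_self, fm_comm a z, hz.1, zero_smul,
        zero_smul, add_zero, add_zero, add_add_cancel, add_comm b z, ← one_smul F b,
        hb.add_smul_self hz.2, hψ z hz, hφz]
  by_cases hF : ∃ t : F, t ≠ 0 ∧ t ≠ 1
  · obtain ⟨z, hz, hφz⟩ := P.surj hn ε
    have hz0 : z ≠ 0 := fun h => hε (by rw [← hφz, h, P.zero])
    obtain ⟨h1, h2, hc, h3⟩ := hce z hz hφz hz0
    have hc0 : b + z + ε • a ≠ 0 := fun h => by
      have h' := congrArg (fun v => fm v a) h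
      simp [form_add_left, form_smul_left, form_zero_left, form_self, P.hba, hz.1] at h'
    have h4 := orth_zero hLs hL hc he h1 hc0 h2 hF
    beta_reduce at h4
    exact hε (h3.symm.trans h4)
  · have hn3 := hbig.resolve_left hF
    push Not at hF
    have hF' : ∀ t : F, t = 0 ∨ t = 1 := fun t => or_iff_not_imp_left.2 (hF t)
    have hε1 : ε = 1 := (hF' ε).resolve_left hε
    obtain ⟨hP', hχ⟩ := notv_pair hn hLs hL hbig ha he hae
    have hback : ∀ {w}, w ∈ perp2 a b → w ∈ perp2 a e := fun hw => perp2_shift ε hw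
    have hPz : ∀ z ∈ perp2 a b, φ z = 1 → stv (e + z) 1 * stv e 1 ∈ L := by
      intro z hz hφz
      have hz0 : z ≠ 0 := fun h => by simp [h, P.zero] at hφz
      obtain ⟨h1, -, hc, h3⟩ := hce z hz (by rw [hφz, hε1]) hz0
      have h4 := orth_mem hc he h1
      beta_reduce at h4
      have hsplit : b + z + ε • a = z + e := by rw [hed]; abel
      rw [h3, show χ (b + z + ε • a) = φ z by
          rw [hsplit, ← one_smul F e, he.add_smul_self (hback hz).2, hχ z (hback hz)],
        hφz, hε1] at h4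
      rwa [show b + z + (1 : F) • a = e + z by rw [hed, hε1]; abel] at h4
    obtain ⟨u, hu, hu0, hφu⟩ := ha.exists_zero hn3 P.hab
    obtain ⟨w, hw, huw⟩ := exists_partner P.hab hu hu0
    obtain ⟨e2, he2, h2, hh2, heh2, ⟨p1, p2⟩, q1, q2⟩ := exists_perp_pair hn3 P.hab hu hw huw
    obtain ⟨x, y, hxy⟩ := surj_line (φ := φ) heh2 (fun x y x' y' => P.add _ (Submodule.add_mem _
      (Submodule.smul_mem _ _ he2) (Submodule.smul_mem _ _ hh2)) _ (Submodule.add_mem _
      (Submodule.smul_mem _ _ he2) (Submodule.smul_mem _ _ hh2))) 1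
    set z := x • e2 + y • h2 with hzd
    have hz : z ∈ perp2 a b :=
      Submodule.add_mem _ (Submodule.smul_mem _ _ he2) (Submodule.smul_mem _ _ hh2)
    have hzu : fm z u = 0 := by simp [hzd, form_add_left, form_smul_left, p1, q1]
    have hA := ha.mem u hu.1
    rw [hφu] at hA
    have h1 := L.mul_mem (L.mul_mem hA (hPz z hz hxy)) (L.inv_mem hA)
    rw [show sg a u 0 * (stv (e + z) 1 * stv e 1) * (sg a u 0)⁻¹ =
        (sg a u 0 * stv (e + z) 1 * (sg a u 0)⁻¹) * (sg a u 0 * stv e 1 * (sg a u 0)⁻¹) by group,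
      stv_conj (hLs hA), stv_conj (hLs hA)] at h1
    change stv (act _ (e + z)) 1 * stv (act _ e) 1 ∈ L at h1
    have hAe : act (sg a u 0) e = e + u := by
      rw [hed, act_add, act_smul, act_sg_b P.hab hu, act_sg hu.1 0 a, form_self, fm_comm a u, hu.1]
      match_scalars <;> ring_nf
    have hAz : act (sg a u 0) z = z := by
      rw [act_sg hu.1, hz.1, hzu, zero_smul, zero_smul, add_zero, add_zero]
    rw [act_add, hAe, hAz] at h1
    have hzu' : fm u z = 0 := (fm_comm u z).trans hzu
    have h3 := hPz (z + u) (Submodule.add_mem _ hz hu)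
      (by rw [P.add _ hz _ hu, hxy, hφu, hzu, add_zero, add_zero])
    have hue : fm u e = 0 := (hback hu).2
    have hcom : fm (e + u + z) (e + u) = 0 := by
      rw [form_add_left, form_self, form_add_right, (hback hz).2, hzu, add_zero, zero_add]
    rw [stv_comm hcom] at h1
    have h4 := L.mul_mem h1 h3
    rw [show e + (z + u) = e + u + z by abel, mul_assoc, ← mul_assoc (stv (e + u + z) (1 : F)), stv_add,
      CharTwo.add_self_eq_zero, stv_zero_right, one_mul] at h4
    set g0 := stv (e + u) (1 : F) * stv e 1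
    have hg0 : ∀ v, fm v e = 0 → act g0 v = v + fm v u • (u + (1 : F) • e) := fun v hv => by
      simp only [g0, act, mul_mulVec, stv_mulVec, hv, mul_zero, zero_smul, add_zero, form_add_right,
        zero_add, one_mul, one_smul, add_comm u e]
    have hg0e : act g0 e = e := by
      rw [hg0 e (form_self e), fm_comm e u, hue, zero_smul, add_zero]
    have h5 := he.conj hLs h4
    rw [hg0e] at h5
    have hwe : fm w e = 0 := (hback hw).2
    have hwu : fm w u = 1 := (fm_comm w u).trans huw
    have hgw : fm (act g0 w) e = 0 := by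
      rw [hg0 w hwe, form_add_left, form_smul_left, form_add_left, form_smul_left, hue, form_self, hwe]
      simp
    have h6 := h5.unique hL (fun h => by simp [h, form_zero_right] at hae) hgw (he.mem _ hgw)
    beta_reduce at h6
    rw [act_inv', hg0 w hwe, hwu, one_smul, ← add_assoc,
      he.add_smul_self (by rw [form_add_left, hwe, hue, add_zero]), he.add _ _ hwe hue,
      hχ u (hback hu), hφu, add_zero, hwu] at h6
    exact one_ne_zero (add_eq_left.1 h6.symm)

theorem Pair.sg_mem_pairs (P : Pair L a b φ) : ∀ p, P.qf p = 0 → ∀ w, fm w p = 0 → ∀ (c : F), c ≠ 0 → P.qf w = c →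
    ∀ (h : sg p w c ∈ P.iso), isoGroupEquiv P.qf ⟨sg p w c, h⟩ ∈ pairGroup P.qf := by
  intro p hp w hw c hc hq h
  have h2 : P.qf (w + c • p) = c := by
    rw [P.qf_add, P.qf_smul, hp, form_smul_right, hw, hq, mul_zero, mul_zero, add_zero, add_zero]
  have hne : P.qf (w + c • p) ≠ 0 := by rwa [h2]
  have hne' : P.qf w ≠ 0 := by rwa [hq]
  have e := tv_mul_tv (F := F) hw c c⁻¹
  rw [inv_mul_cancel₀ hc, one_smul, show c⁻¹ * c ^ 2 = c by field_simp] at e
  refine Subgroup.subset_closure ⟨_, _, hne, hne', ?_⟩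
  rw [← P.refl_eq hne, ← P.refl_eq hne', ← map_mul]
  refine congrArg _ (Subtype.ext ?_)
  rw [Subgroup.coe_mul]
  simp only [h2, hq, e]

/-- The elements of a pair have even rank when zeros split. -/
theorem Pair.even_gen (P : Pair L a b φ) (hbig : (∃ t : F, t ≠ 0 ∧ t ≠ 1) ∨ 3 ≤ n) :
    ∀ m ∈ P.gen, ∀ h : m ∈ P.iso, Even (Module.finrank F (fixSp (isoGroupEquiv P.qf ⟨m, h⟩))) := by
  have hsplit : ∀ w ∈ perp2 a b, w ≠ 0 → φ w = 0 → ∃ u ∈ perp2 a b, φ u ≠ 0 ∧ φ (w + u) ≠ 0 := by
    intro w hw hw0 hφw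
    obtain ⟨v, hv, hwv⟩ := exists_partner P.hab hw hw0
    by_cases hF : ∃ t : F, t ≠ 0 ∧ t ≠ 1
    · obtain ⟨t, ht0, ht1⟩ := hF
      have hm := Submodule.smul_mem (perp2 a b) (φ v + t) hw
      refine ⟨v + (φ v + t) • w, Submodule.add_mem _ hv hm, ?_, ?_⟩
      · rw [P.add _ hv _ hm, P.smul _ _ hw, hφw, mul_zero, add_zero, form_smul_right, fm_comm v w, hwv, mul_one,
          ← add_assoc, CharTwo.add_self_eq_zero, zero_add]
        exact ht0
      · rw [P.add _ hw _ (Submodule.add_mem _ hv hm), P.add _ hv _ hm, P.smul _ _ hw, hφw, mul_zero, add_zero,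
          form_smul_right, fm_comm v w, hwv, form_add_right, form_smul_right, form_self, hwv, mul_zero, mul_one,
          add_zero, zero_add, ← add_assoc, CharTwo.add_self_eq_zero, zero_add]
        exact fun h => ht1 (CharTwo.add_eq_zero.1 h)
    · have hn3 := hbig.resolve_left hF
      obtain ⟨e2, he2, h2, hh2, heh2, ⟨p1, p2⟩, q1, q2⟩ := exists_perp_pair hn3 P.hab hw hv hwv
      have hm : ∀ x y : F, x • e2 + y • h2 ∈ perp2 a b := fun x y =>
        Submodule.add_mem _ (Submodule.smul_mem _ _ he2) (Submodule.smul_mem _ _ hh2)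
      obtain ⟨x, y, hxy⟩ := surj_line (φ := φ) heh2 (fun x y x' y' => P.add _ (hm x y) _ (hm x' y')) 1
      refine ⟨_, hm x y, by rw [hxy]; exact one_ne_zero, ?_⟩
      rw [P.add _ hw _ (hm x y), hφw, hxy, fm_comm w (x • e2 + y • h2)]
      simp [form_add_left, form_smul_left, p1, q1]
  have hevenM : P.gen ≤ ((pairGroup P.qf).comap (isoGroupEquiv P.qf).toMonoidHom).map P.iso.subtype := by
    refine (Subgroup.closure_le _).2 ?_
    have aux : ∀ p, P.qf p = 0 → (∀ w ∈ perp2 a b, fm w p = 0) → ∀ w ∈ perp2 a b,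
        sg p w (φ w) ∈ ((pairGroup P.qf).comap (isoGroupEquiv P.qf).toMonoidHom).map P.iso.subtype := by
      intro p hp hperp
      have hnz : ∀ w ∈ perp2 a b, φ w ≠ 0 →
          sg p w (φ w) ∈ ((pairGroup P.qf).comap (isoGroupEquiv P.qf).toMonoidHom).map P.iso.subtype := by
        intro w hw hk
        have hi := sg_mem_iso P.qf_add hp (hperp w hw) (P.qf_of_mem hw)
        exact ⟨⟨_, hi⟩, P.sg_mem_pairs p hp w (hperp w hw) _ hk (P.qf_of_mem hw) hi, rfl⟩
      intro w hw
      by_cases hk : φ w = 0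
      · by_cases hw0 : w = 0
        · rw [hw0, P.zero, sg_zero, stv_zero_right]; exact Subgroup.one_mem _
        obtain ⟨u, hu, hu1, hwu⟩ := hsplit w hw hw0 hk
        have hwu' := Submodule.add_mem _ hw hu
        have := Subgroup.mul_mem _ (hnz _ hwu' hwu) (hnz u hu hu1)
        rwa [sg_mul (hperp _ hwu') (hperp u hu), ← P.add _ hwu' _ hu, add_add_cancel] at this
      · exact hnz w hw hk
    rintro k ⟨w, hw, rfl | rfl⟩
    · exact aux a P.qf_a (fun w hw => hw.1) w hw
    · exact aux b P.qf_b (fun w hw => hw.2) w hw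
  intro m hm h
  obtain ⟨k, hk, rfl⟩ := hevenM hm
  exact pairGroup_even P.nondeg hk

/-- Without transvections and inside the orthogonal group: the elements with even rank. -/
theorem Pair.notv_final (P : Pair L a b φ) (hn : 2 ≤ n) (hL : NoTv L)
    (heven : ∀ m ∈ P.gen, ∀ h : m ∈ P.iso, Even (Module.finrank F (fixSp (isoGroupEquiv P.qf ⟨m, h⟩))))
    (hle : L ≤ P.iso) (g : G) :
    g ∈ L ↔ g ∈ P.iso ∧ Even ((g : Matrix (Fin n ⊕ Fin n) (Fin n ⊕ Fin n) F) - 1).rank := by
  set R := stv (b + (1 : F) • a) (1 : F) with hRd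
  have hRR : R * R = 1 := by rw [hRd, stv_add, CharTwo.add_self_eq_zero, stv_zero_right]
  have hRi : R⁻¹ = R := inv_eq_of_mul_eq_one_right hRR
  have hRa : act R a = b := by
    rw [hRd, act, stv_mulVec, form_add_right, form_smul_right, form_self, P.hab, one_smul]
    match_scalars <;> ring_nf <;> simp [two_zero]
  have hRb : act R b = a := by
    rw [hRd, act, stv_mulVec, form_add_right, form_smul_right, form_self, P.hba, one_smul]
    match_scalars <;> ring_nf <;> simp [two_zero]
  have hRw : ∀ w ∈ perp2 a b, act R w = w := fun w hw => by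
    rw [hRd, act, stv_mulVec, form_add_right, form_smul_right, hw.1, hw.2, mul_zero, add_zero, mul_zero,
      zero_smul, add_zero]
  have hRs : R ∈ spGL n F := stv_mem _ _
  have hnorm : ∀ k ∈ P.gen, R * k * R ∈ P.gen := by
    intro k hk
    induction hk using Subgroup.closure_induction with
    | mem x hx =>
      obtain ⟨w, hw, rfl | rfl⟩ := hx
      · have := sg_conj hRs a w (φ w)
        rw [hRi, hRa, hRw w hw] at this
        rw [this]; exact P.memB_gen hw
      · have := sg_conj hRs b w (φ w)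
        rw [hRi, hRb, hRw w hw] at this
        rw [this]; exact P.memA_gen hw
    | one => rw [mul_one, hRR]; exact P.gen.one_mem
    | mul x y _ _ hx hy =>
      have := P.gen.mul_mem hx hy
      rwa [show R * x * R * (R * y * R) = R * x * (R * R) * y * R by group, hRR, mul_one,
        show R * x * y * R = R * (x * y) * R by group] at this
    | inv x _ hx =>
      have := P.gen.inv_mem hx
      rwa [_root_.mul_inv_rev, _root_.mul_inv_rev, hRi, ← mul_assoc] at this
  let K : Subgroup G :=
    { carrier := {k | k ∈ P.gen ∨ k * R ∈ P.gen}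
      one_mem' := Or.inl P.gen.one_mem
      mul_mem' := fun {x y} hx hy => by
        rcases hy with hy | hy
        · rcases hx with hx | hx
          · exact Or.inl (P.gen.mul_mem hx hy)
          · refine Or.inr ?_
            have := P.gen.mul_mem hx (hnorm y hy)
            rwa [show x * R * (R * y * R) = x * (R * R) * y * R by group, hRR, mul_one] at this
        · rcases hx with hx | hx
          · refine Or.inr ?_
            have := P.gen.mul_mem hx hy
            rwa [← mul_assoc] at this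
          · refine Or.inl ?_
            have := P.gen.mul_mem hx (hnorm _ hy)
            rwa [show x * R * (R * (y * R) * R) = x * (R * R) * y * (R * R) by group, hRR, mul_one,
              mul_one] at this
      inv_mem' := fun {x} hx => by
        rcases hx with hx | hx
        · exact Or.inl (P.gen.inv_mem hx)
        · refine Or.inr ?_
          have := hnorm _ (P.gen.inv_mem hx)
          rwa [_root_.mul_inv_rev, hRi, show R * (R * x⁻¹) * R = R * R * x⁻¹ * R by group, hRR, one_mul] at this }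
  have hOK : P.iso ≤ K := by
    refine P.iso_le hn (fun k hk => Or.inl hk) fun x hx => ?_
    obtain ⟨ν, hν⟩ := exists_sq (P.qf x)
    have hν0 : ν ≠ 0 := fun h => hx (by rw [← hν, h, zero_pow two_ne_zero])
    obtain ⟨t, ht, hta, htb⟩ := P.exists_torus hn hν0
    obtain ⟨m, hm, hmx⟩ := P.move_nonsing hn hx
    have hRK : R ∈ K := Or.inr (by rw [hRR]; exact P.gen.one_mem)
    have hmt : m * t ∈ K := Or.inl (P.gen.mul_mem hm ht)
    have h1 := K.mul_mem (K.mul_mem hmt hRK) (K.inv_mem hmt)
    rw [hRd, stv_conj (P.gen_le_sp (P.gen.mul_mem hm ht))] at h1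
    change stv (act (m * t) (b + (1 : F) • a)) 1 ∈ K at h1
    have e : act t (b + (1 : F) • a) = ν⁻¹ • (b + P.qf x • a) := by
      rw [one_smul, act_add, hta, htb, smul_add, smul_smul, ← hν, sq, inv_mul_cancel_left₀ hν0]
    rwa [act_mul, e, act_smul, hmx, stv_smul, inv_pow, hν, mul_one] at h1
  have hRne : R ≠ 1 := fun h => by
    have e := congrArg (fun k : G => act k a) h
    rw [hRa, act_one] at e
    have := P.hab
    rw [e, form_self] at this
    exact zero_ne_one this
  have hR1 : P.qf (b + (1 : F) • a) ≠ 0 := by rw [P.qf_ba]; exact one_ne_zero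
  have hRO : R ∈ P.iso := by
    have := P.stv_mem_iso hR1
    rwa [P.qf_ba, inv_one] at this
  have hodd : ∀ k ∈ P.iso, k * R ∈ P.gen →
      ¬ Even ((k : Matrix (Fin n ⊕ Fin n) (Fin n ⊕ Fin n) F) - 1).rank := by
    intro k hk hkR he
    have hm := hnorm _ hkR
    rw [show R * (k * R) * R = R * k * (R * R) by group, hRR, mul_one] at hm
    have hmO := P.gen_le_iso hm
    have h1 := finrank_fixSp_refl_mul P.nondeg (isoGroupEquiv P.qf ⟨R * k, hmO⟩) hR1
    rw [← P.refl_eq hR1, ← map_mul, show ((⟨stv (b + (1 : F) • a) (P.qf (b + (1 : F) • a))⁻¹,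
        P.stv_mem_iso hR1⟩ : P.iso) * ⟨R * k, hmO⟩) = ⟨k, hk⟩ from Subtype.ext (by
          simp only [Subgroup.coe_mul, P.qf_ba, inv_one]
          rw [← hRd, ← mul_assoc, hRR, one_mul])] at h1
    have h2 := fixSp_isoEquiv_rank (⟨k, hk⟩ : P.iso)
    have h3 := heven _ hm hmO
    dsimp only at h2
    rw [Nat.even_iff] at he h3
    omega
  constructor
  · intro hg
    refine ⟨hle hg, ?_⟩
    rcases hOK (hle hg) with h | h
    · have h2 := fixSp_isoEquiv_rank (⟨g, hle hg⟩ : P.iso)
      have h3 := heven g h (hle hg)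
      rw [Nat.even_iff] at h3 ⊢
      dsimp only at h2
      omega
    · exfalso
      refine hRne (hL _ _ ?_)
      have := L.mul_mem (L.inv_mem hg) (P.gen_le h)
      rwa [inv_mul_cancel_left] at this
  · rintro ⟨hgO, he⟩
    rcases hOK hgO with h | h
    · exact P.gen_le h
    · exact absurd he (hodd g hgO h)

end CfsgLib.TvFree
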