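import Cfsg.Agent.TvFree.Plane
import Cfsg.Agent.Solvable.Basics

/-!
# The two-core of the stabilizer of a vector and the sections it supplies
-/

set_option autoImplicit false
set_option linter.unusedSectionVars false

namespace CfsgLib.TvFree

open Matrix Cfsg CfsgLib.Geo CfsgLib.Geo.SpTv
open CfsgLib.Symp (form form_add_left form_add_right form_smul_left form_smul_right form_self
  form_zero_left form_zero_right)

variable {n : ℕ} {F : Type*} [Field F] [CharP F 2]

local notation "E" => Fin n ⊕ Fin n → F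
local notation "G" => GL (Fin n ⊕ Fin n) F
local notation "fm" => CfsgLib.Symp.form (l := Fin n) (R := F)

theorem three_one : (3 : F) = 1 := by linear_combination (two_zero : (2 : F) = 0)

/-- An element fixing `a` and trivial on `a^⊥/⟨a⟩` is of the form `sg a w c`. -/
theorem exists_eq_sg {a b : E} (hab : fm a b = 1) {p : G} (hp : p ∈ spGL n F) (hpa : act p a = a)
    (ht : ∀ u, fm u a = 0 → act p u + u ∈ F ∙ a) :
    ∃ w ∈ perp2 a b, ∃ c, p = sg a w c := by
  set x := act p b + b with hx
  have hpb : act p b = b + x := by rw [hx, add_comm (act p b) b, ← add_assoc, add_self, zero_add]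
  have hxa : fm x a = 0 := by
    have h1 := fm_act hp b a
    rw [hpa] at h1
    rw [hx, form_add_left, h1, CharTwo.add_self_eq_zero]
  have hba : fm b a = 1 := by rw [fm_comm, hab]
  have hu : ∀ u, fm u a = 0 → act p u = u + fm u x • a := by
    intro u hu
    obtain ⟨t, htu⟩ := Submodule.mem_span_singleton.1 (ht u hu)
    have e : act p u = u + t • a := by rw [htu, add_comm (act p u) u, ← add_assoc, add_self, zero_add]
    have h1 := fm_act hp u b
    rw [e, hpb] at h1
    simp only [form_add_left, form_add_right, form_smul_left, hab, fm_comm a x, hxa, mul_one, mul_zero,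
      add_zero, add_assoc, add_eq_left] at h1
    rw [e, CharTwo.add_eq_zero.1 h1]
  have hwa : fm (x + fm x b • a) a = 0 := by
    simp [form_add_left, form_smul_left, form_self, hxa]
  refine ⟨x + fm x b • a, ⟨hwa, ?_⟩, fm x b, gl_ext_mulVec fun v => ?_⟩
  · simp [form_add_left, form_smul_left, hab, CharTwo.add_self_eq_zero]
  show act p v = act _ v
  have hv : fm (v + fm v a • b) a = 0 := by simp [form_add_left, form_smul_left, hba, CharTwo.add_self_eq_zero]
  have e := hu _ hv
  rw [act_add, act_smul, hpb] at e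
  rw [act_sg hwa, show act p v = act p v + fm v a • (b + x) + fm v a • (b + x) from (add_add_cancel _ _).symm, e]
  simp only [form_add_left, form_smul_left, form_add_right, form_smul_right, fm_comm b x]
  match_scalars <;> ring_nf <;> simp [two_zero, three_one]

variable [Finite F]

/-- Every element of a normal two-subgroup of the stabilizer of `a` is of the form `sg a w c`. -/
theorem twoCore_le {a b : E} (hab : fm a b = 1) {H P : Subgroup G}
    (hH : ∀ g, g ∈ H ↔ g ∈ spGL n F ∧ act g a = a) (hPH : P ≤ H)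
    (hN : ∀ g ∈ H, ∀ p ∈ P, g * p * g⁻¹ ∈ P) (hP : IsPGroup 2 P) {p : G} (hp : p ∈ P) :
    ∃ w ∈ perp2 a b, ∃ c, p = sg a w c := by
  refine exists_eq_sg hab ((hH p).1 (hPH hp)).1 ((hH p).1 (hPH hp)).2 ?_
  -- the vectors moved only inside the line through `a`
  let S : Submodule F E :=
    { carrier := {u | fm u a = 0 ∧ ∀ g ∈ P, act g u + u ∈ F ∙ a}
      zero_mem' := ⟨form_zero_left a, fun g _ => by simp [act]⟩
      add_mem' := fun {u v} hu hv => ⟨by rw [form_add_left, hu.1, hv.1, add_zero], fun g hg => by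
        have := (F ∙ a).add_mem (hu.2 g hg) (hv.2 g hg)
        rwa [show act g u + u + (act g v + v) = act g (u + v) + (u + v) by rw [act_add]; abel] at this⟩
      smul_mem' := fun c u hu => ⟨by rw [form_smul_left, hu.1, mul_zero], fun g hg => by
        have := (F ∙ a).smul_mem c (hu.2 g hg)
        rwa [smul_add, ← act_smul] at this⟩ }
  suffices hS : ∀ u, fm u a = 0 → u ∈ S from fun u hu => (hS u hu).2 p hp
  intro u hu
  by_cases hall : ∀ v, fm v a = 0 → v ∈ F ∙ a
  · obtain ⟨t, rfl⟩ := Submodule.mem_span_singleton.1 (hall u hu)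
    exact ⟨hu, fun g hg => by
      rw [act_smul, ((hH g).1 (hPH hg)).2, add_self]; exact zero_mem _⟩
  push Not at hall
  obtain ⟨v0, hv0, hv0a⟩ := hall
  -- a point fixed by the two-group
  obtain ⟨s, hsS, hsa⟩ : ∃ s ∈ S, s ∉ F ∙ a := by
    let P0 : Submodule F E :=
      { carrier := {v | fm v a = 0}
        zero_mem' := form_zero_left a
        add_mem' := fun {x y} hx hy => by
          simp only [Set.mem_setOf_eq] at *
          rw [form_add_left, hx, hy, add_zero]
        smul_mem' := fun c x hx => by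
          simp only [Set.mem_setOf_eq] at *
          rw [form_smul_left, hx, mul_zero] }
    let M : Submodule F P0 := (F ∙ a).comap P0.subtype
    have hst : ∀ (g : P) (v : P0), act g.1 v.1 ∈ P0 := fun g v => by
      have h1 := fm_act ((hH g.1).1 (hPH g.2)).1 v.1 a
      rw [((hH g.1).1 (hPH g.2)).2] at h1
      exact h1.trans v.2
    let f : P → P0 →ₗ[F] P0 := fun g =>
      { toFun := fun v => ⟨act g.1 v.1, hst g v⟩
        map_add' := fun v w => Subtype.ext (act_add _ _ _)
        map_smul' := fun c v => Subtype.ext (act_smul _ _ _) }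
    have hM : ∀ g, M ≤ M.comap (f g) := fun g v hv => by
      obtain ⟨t, ht⟩ := Submodule.mem_span_singleton.1 (show v.1 ∈ F ∙ a from hv)
      show act g.1 v.1 ∈ F ∙ a
      rw [← ht, act_smul, ((hH g.1).1 (hPH g.2)).2]
      exact Submodule.smul_mem _ _ (Submodule.mem_span_singleton_self a)
    let act' : MulAction P (P0 ⧸ M) :=
      { smul := fun g => M.mapQ M (f g) (hM g)
        one_smul := fun q => by
          obtain ⟨v, rfl⟩ := Submodule.Quotient.mk_surjective M q
          exact congrArg Submodule.Quotient.mk (Subtype.ext (act_one v.1))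
        mul_smul := fun g h q => by
          obtain ⟨v, rfl⟩ := Submodule.Quotient.mk_surjective M q
          exact congrArg Submodule.Quotient.mk (Subtype.ext (act_mul g.1 h.1 v.1)) }
    let _ := act'
    have hsmul : ∀ (g : P) (v : P0), g • (Submodule.Quotient.mk v : P0 ⧸ M) = Submodule.Quotient.mk (f g v) :=
      fun _ _ => rfl
    haveI : Finite (P0 ⧸ M) := Finite.of_surjective _ (Submodule.Quotient.mk_surjective M)
    haveI : Fact (Nat.Prime 2) := ⟨Nat.prime_two⟩
    have hne : (⟨v0, hv0⟩ : P0) ∉ M := hv0a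
    haveI : Nontrivial (P0 ⧸ M) := ⟨⟨Submodule.Quotient.mk ⟨v0, hv0⟩, 0, fun h => hne ((Submodule.Quotient.mk_eq_zero M).1 h)⟩⟩
    have hcard : 2 ∣ Nat.card (P0 ⧸ M) := by
      obtain ⟨x, hx⟩ := exists_ne (0 : P0 ⧸ M)
      refine (dvd_of_eq (addOrderOf_eq_prime ?_ hx).symm).trans (addOrderOf_dvd_natCard x)
      rw [two_nsmul, ← two_smul F x, two_zero, zero_smul]
    obtain ⟨q, hq, hq0⟩ := hP.exists_fixed_point_of_prime_dvd_card_of_fixed_point (P0 ⧸ M) hcard
      (a := 0) (fun g => (M.mapQ M (f g) (hM g)).map_zero)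
    obtain ⟨v, rfl⟩ := Submodule.Quotient.mk_surjective M q
    refine ⟨v.1, ⟨v.2, fun g hg => ?_⟩, fun hva => hq0 ?_⟩
    · have h1 := hq ⟨g, hg⟩
      rw [hsmul, Submodule.Quotient.eq] at h1
      have h2 : act g v.1 - v.1 ∈ F ∙ a := h1
      rwa [show act g v.1 - v.1 = act g v.1 + v.1 from funext fun i => CharTwo.sub_eq_add _ _] at h2
    · exact ((Submodule.Quotient.mk_eq_zero M).2 hva).symm
  -- the fixed vectors are invariant under the stabilizer
  have hinv : ∀ g ∈ H, ∀ x ∈ S, act g x ∈ S := fun g hg x hx => by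
    obtain ⟨hgs, hga⟩ := (hH g).1 hg
    refine ⟨?_, fun k hk => ?_⟩
    · rw [← hga, fm_act hgs]; exact hx.1
    · obtain ⟨t, ht⟩ := Submodule.mem_span_singleton.1 (hx.2 _ (hN g⁻¹ (H.inv_mem hg) k hk))
      refine Submodule.mem_span_singleton.2 ⟨t, ?_⟩
      have h1 := congrArg (act g) ht
      rw [act_smul, hga, act_add, ← act_mul] at h1
      rw [h1, ← act_mul]
      congr 2
      group
  -- a vector not orthogonal to `s` lies in the span
  have hmove : ∀ v, fm v a = 0 → fm s v ≠ 0 → v ∈ S := fun v hv hsv => by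
    have hT : stv v (1 : F) ∈ H := (hH _).2 ⟨stv_mem _ _, by
      simp [act, stv_mulVec, fm_comm a v, hv]⟩
    have h1 := S.add_mem (hinv _ hT s hsS) hsS
    have e : act (stv v (1 : F)) s + s = fm s v • v := by
      simp only [act, stv_mulVec, one_mul]
      rw [add_comm, ← add_assoc, add_self, zero_add]
    rw [e] at h1
    exact (S.smul_mem_iff hsv).1 h1
  obtain ⟨y, hy, hsy⟩ := exists_form_of_notMem (F ∙ a) hsa
  have hya : fm y a = 0 := by rw [fm_comm]; exact hy a (Submodule.mem_span_singleton_self a)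
  by_cases hsu : fm s u = 0
  · rw [show u = (u + y) + y from (add_add_cancel u y).symm]
    refine S.add_mem (hmove _ ?_ ?_) (hmove y hya (by rw [hsy]; exact one_ne_zero))
    · rw [form_add_left, hu, hya, add_zero]
    · rw [form_add_right, hsu, hsy, zero_add]; exact one_ne_zero
  · exact hmove u hu hsu

theorem card_perp2 {a b : E} (hab : fm a b = 1) :
    Nat.card (perp2 a b) = Nat.card F ^ (2 * n - 2) := by
  let g : E →ₗ[F] F × F :=
    { toFun := fun v => (fm v a, fm v b)
      map_add' := fun u v => by simp [form_add_left]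
      map_smul' := fun c v => by simp [form_smul_left] }
  have hk : LinearMap.ker g = perp2 a b := by ext v; simp [g, mem_perp2]
  have hs : LinearMap.range g = ⊤ := Submodule.eq_top_iff'.2 fun x => ⟨x.2 • a + x.1 • b, by
    simp [g, form_add_left, form_smul_left, form_self, hab, fm_comm b a]⟩
  have h := g.finrank_range_add_finrank_ker
  rw [hs, hk, finrank_top, Module.finrank_prod, Module.finrank_self, Module.finrank_fintype_fun_eq_card,
    Fintype.card_sum, Fintype.card_fin] at h
  rw [Module.natCard_eq_pow_finrank (K := F), show Module.finrank F (perp2 a b) = 2 * n - 2 by omega]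

theorem sg_dir_unique {a b : E} (hab : fm a b = 1) {w w' : E} (hw : w ∈ perp2 a b) (hw' : w' ∈ perp2 a b)
    {c c' : F} (h : sg a w c = sg a w' c') : w = w' ∧ c = c' := by
  have e := congrArg (fun g : G => act g b) h
  simp only [act_sg hw.1, act_sg hw'.1, fm_comm b a, fm_comm b w, fm_comm b w', hab, hw.2, hw'.2,
    zero_smul, add_zero, one_smul, add_right_inj] at e
  have e2 := congrArg (fun v => fm v b) e
  simp only [form_add_left, form_smul_left, hab, hw.2, hw'.2, zero_add, mul_one] at e2
  subst e2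
  exact ⟨add_right_cancel e, rfl⟩

/-- A large subgroup of the radical without transvections supplies a section. -/
theorem exists_sec {a b : E} (hab : fm a b = 1) {X L : Subgroup G} (hXL : X ≤ L)
    (hX : ∀ x ∈ X, ∃ w ∈ perp2 a b, ∃ c, x = sg a w c)
    (hcard : Nat.card X = Nat.card F ^ (2 * n - 2))
    (hntv : ∀ x ∈ X, ((x : Matrix (Fin n ⊕ Fin n) (Fin n ⊕ Fin n) F) - 1).rank ≠ 1) :
    ∃ φ, Sec L a φ := by
  classical
  choose! wX hwX cX hcX using hX
  have ha0 : a ≠ 0 := fun h => by simp [h, form_zero_left] at hab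
  have huniq : ∀ x ∈ X, ∀ y ∈ X, wX x = wX y → x = y := fun x hx y hy hxy => by
    have hm := X.mul_mem hx hy
    rw [hcX x hx, hcX y hy, hxy, sg_mul_sg (hwX y hy).1] at hm
    by_cases hc : cX x + cX y = 0
    · rw [hcX x hx, hcX y hy, hxy, CharTwo.add_eq_zero.1 hc]
    · exact absurd (rank_stv ha0 hc) (hntv _ hm)
  haveI : Finite G := inferInstance
  let t : X → perp2 a b := fun x => ⟨wX x.1, hwX x.1 x.2⟩
  have hbij : Function.Bijective t :=
    Function.Injective.bijective_of_nat_card_le
      (fun x y h => Subtype.ext (huniq _ x.2 _ y.2 (congrArg Subtype.val h)))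
      (by rw [card_perp2 hab, hcard])
  obtain ⟨s, -, hs⟩ := Function.bijective_iff_has_inverse.1 hbij
  let φ : E → F := fun w => cX (s ⟨pj a b w, pj_mem hab w⟩).1
  have hsel : ∀ w, sg a (pj a b w) (φ w) ∈ X := fun w => by
    set x := s ⟨pj a b w, pj_mem hab w⟩ with hxd
    have h1 : wX x.1 = pj a b w := congrArg Subtype.val (hs ⟨pj a b w, pj_mem hab w⟩)
    have h2 := hcX x.1 x.2
    rw [h1] at h2
    show sg a (pj a b w) (cX x.1) ∈ X
    rw [← h2]; exact x.2
  have hdet : ∀ {w : E} {c : F}, w ∈ perp2 a b → sg a w c ∈ X → φ w = c := fun {w c} hw hc => by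
    have h1 := hsel w
    rw [pj_of_mem hw] at h1
    have h2 := X.mul_mem h1 hc
    rw [sg_mul_sg hw.1] at h2
    by_contra hne
    exact hntv _ h2 (rank_stv ha0 fun h => hne (CharTwo.add_eq_zero.1 h))
  have hpj : ∀ w, fm w a = 0 → pj a b w = w + fm w b • a := fun w hw => by simp [pj, hw]
  have hφpj : ∀ w, φ (pj a b w) = φ w := fun w => by
    simp only [φ, pj_of_mem (pj_mem hab w)]
  refine ⟨φ, fun w hw => hXL ?_, fun w w' hw hw' => ?_, fun t => ?_⟩
  · rw [← sg_add_smul hw (fm w b) (φ w), ← hpj w hw]; exact hsel w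
  · have h1 := X.mul_mem (hsel w) (hsel w')
    rw [sg_mul (pj_mem hab w).1 (pj_mem hab w').1, ← pj_add] at h1
    rw [← hφpj (w + w'), hdet (pj_mem hab _) h1, hpj w hw, hpj w' hw']
    simp [form_add_left, form_add_right, form_smul_left, form_smul_right, form_self, fm_comm a w', hw, hw']
  · have h0 : pj a b (t • a) = 0 := by
      simp [pj, form_smul_left, form_self, hab, add_self]
    rw [← hφpj, h0]
    refine hdet (Submodule.zero_mem _) ?_
    rw [sg_zero, stv_zero_right]
    exact X.one_mem

end CfsgLib.TvFree
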