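import Cfsg.Agent.TvFree.QForm
import Cfsg.Agent.TvFree.Radical

/-!
# Generation of the orthogonal group of a pair, and the parity of the rank
-/

set_option autoImplicit false
set_option linter.unusedSectionVars false

namespace CfsgLib.TvFree

open Matrix Cfsg CfsgLib.Geo CfsgLib.Geo.SpTv CfsgLib.Quad
open CfsgLib.Symp (form form_add_left form_add_right form_smul_left form_smul_right form_self
  form_zero_left form_zero_right)

variable {n : ℕ} {F : Type*} [Field F] [CharP F 2]

local notation "E" => Fin n ⊕ Fin n → F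
local notation "G" => GL (Fin n ⊕ Fin n) F
local notation "fm" => CfsgLib.Symp.form (l := Fin n) (R := F)

variable {L : Subgroup (GL (Fin n ⊕ Fin n) F)} {a b : Fin n ⊕ Fin n → F}
  {φ : (Fin n ⊕ Fin n → F) → F}

theorem isoEquiv_apply {Q : QuadraticForm F E} (g : Cfsg.isometryGroup F ⇑Q) (x : E) :
    (isoGroupEquiv Q g).1 x = act g.1 x := rfl

theorem fixSp_isoEquiv_rank {Q : QuadraticForm F E} (g : Cfsg.isometryGroup F ⇑Q) :
    ((g.1 : Matrix (Fin n ⊕ Fin n) (Fin n ⊕ Fin n) F) - 1).rank +
      Module.finrank F (fixSp (isoGroupEquiv Q g)) = n + n := by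
  have hk : LinearMap.ker ((g.1 : Matrix (Fin n ⊕ Fin n) (Fin n ⊕ Fin n) F) - 1).mulVecLin =
      fixSp (isoGroupEquiv Q g) := by
    ext x
    rw [LinearMap.mem_ker, mulVecLin_apply, sub_mulVec, Matrix.one_mulVec, sub_eq_zero, mem_fixSp, isoEquiv_apply]
  have h := LinearMap.finrank_range_add_finrank_ker
    ((g.1 : Matrix (Fin n ⊕ Fin n) (Fin n ⊕ Fin n) F) - 1).mulVecLin
  rw [hk, Module.finrank_fintype_fun_eq_card, Fintype.card_sum, Fintype.card_fin] at h
  exact h

theorem Pair.nondeg (P : Pair L a b φ) : (QuadraticMap.polarBilin P.qf).Nondegenerate := by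
  have h : ∀ x y : E, QuadraticMap.polarBilin P.qf x y = fm x y := P.polar_qf
  constructor
  · intro x hx
    by_contra h0
    obtain ⟨y, hy⟩ := CfsgLib.Symp.exists_form_eq_one h0
    have := hx y
    rw [h, hy] at this
    exact one_ne_zero this
  · intro y hy
    by_contra h0
    obtain ⟨x, hx⟩ := CfsgLib.Symp.exists_form_eq_one h0
    have := hy x
    rw [h, fm_comm, hx] at this
    exact one_ne_zero this

theorem Pair.stv_mem_iso (P : Pair L a b φ) {x : E} (hx : P.qf x ≠ 0) : stv x (P.qf x)⁻¹ ∈ P.iso := by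
  refine mem_iso.2 fun u => ?_
  simp only [act, stv_mulVec, P.qf_add, P.qf_smul, form_smul_right]
  field_simp
  ring_nf
  simp [two_zero]

theorem Pair.refl_eq (P : Pair L a b φ) {x : E} (hx : P.qf x ≠ 0) :
    isoGroupEquiv P.qf ⟨stv x (P.qf x)⁻¹, P.stv_mem_iso hx⟩ = refl P.qf x := by
  refine Subtype.ext (LinearEquiv.ext fun u => ?_)
  rw [isoEquiv_apply, refl_apply, P.polar_qf, CharTwo.neg_eq]
  exact stv_mulVec x _ u

variable [Finite F]

/-- The orthogonal group of a pair is generated by the elements of the pair and the reflections. -/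
theorem Pair.iso_le (P : Pair L a b φ) (hn : 2 ≤ n) {K : Subgroup G} (hM : P.gen ≤ K)
    (hR : ∀ x, P.qf x ≠ 0 → stv x (P.qf x)⁻¹ ∈ K) : P.iso ≤ K := by
  by_cases hgen : (∃ t : F, t ≠ 0 ∧ t ≠ 1) ∨ Module.finrank F E ≠ 4
  · intro g hg
    have h1 : isoGroupEquiv P.qf ⟨g, hg⟩ ∈ reflGroup P.qf := by
      rw [reflGroup_eq_top P.nondeg hgen]; trivial
    have h2 : reflGroup P.qf ≤ (K.subgroupOf P.iso).map (isoGroupEquiv P.qf).toMonoidHom := by
      refine (Subgroup.closure_le _).2 ?_
      rintro _ ⟨x, rfl⟩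
      by_cases hx : P.qf x = 0
      · rw [refl_eq_one hx]; exact Subgroup.one_mem _
      · exact ⟨⟨_, P.stv_mem_iso hx⟩, hR x hx, P.refl_eq hx⟩
    obtain ⟨k, hk, he⟩ := h2 h1
    have := (isoGroupEquiv P.qf).injective he
    subst this
    exact hk
  · push Not at hgen
    obtain ⟨hF, h4⟩ := hgen
    rw [Module.finrank_fintype_fun_eq_card, Fintype.card_sum, Fintype.card_fin] at h4
    have hn2 : n = 2 := by omega
    have hF' : ∀ t : F, t = 0 ∨ t = 1 := fun t => or_iff_not_imp_left.2 (hF t)
    intro g hg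
    have ha0 : a ≠ 0 := fun h => by simpa [h, form_zero_left] using P.hab
    have hga : P.qf (act g a) = 0 := by rw [mem_iso.1 hg, P.qf_a]
    obtain ⟨m, hm, hma⟩ := P.move_sing hn
      (fun h => ha0 (by rw [← act_inv' g a, h]; simp [act])) hga
    -- polar of an isometry
    have hsp : ∀ {k : G}, k ∈ P.iso → ∀ u v, fm (act k u) (act k v) = fm u v := fun {k} hk u v => by
      have h1 := P.qf_add (act k u) (act k v)
      rw [← act_add, mem_iso.1 hk, mem_iso.1 hk, mem_iso.1 hk, P.qf_add] at h1
      exact (add_left_cancel h1).symm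
    set g1 := m⁻¹ * g with hg1d
    have hg1 : g1 ∈ P.iso := P.iso.mul_mem (P.iso.inv_mem (P.gen_le_iso hm)) hg
    have h1a : act g1 a = a := by rw [hg1d, act_mul, ← hma, act_inv']
    set d := act g1 b
    have hda : fm a d = 1 := by
      have := hsp hg1 a b
      rwa [h1a, P.hab] at this
    have hdq : P.qf d = 0 := by rw [mem_iso.1 hg1, P.qf_b]
    have hw := pj_mem P.hab d
    have hdb : fm d b = φ (pj a b d) := by
      rw [P.qf_apply, qv, fm_comm d a, hda, one_mul] at hdq
      exact CharTwo.add_eq_zero.1 hdq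
    set g2 := sg a (pj a b d) (φ (pj a b d)) * g1 with hg2d
    have hg2 : g2 ∈ P.iso := P.iso.mul_mem (P.gen_le_iso (P.memA_gen hw)) hg1
    have h2a : act g2 a = a := by
      rw [hg2d, act_mul, h1a, act_sg hw.1, form_self, fm_comm a _, hw.1, zero_smul, zero_smul, add_zero,
        add_zero]
    have h2b : act g2 b = b := by
      have hd : d = b + pj a b d + φ (pj a b d) • a := by
        conv_lhs => rw [pj_decomp (a := a) (b := b) d, fm_comm d a, hda, hdb, one_smul]
        abel
      rw [hg2d, act_mul]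
      refine (congrArg (act (sg a (pj a b d) (φ (pj a b d)))) (hd.trans (act_sg_b P.hab hw _).symm)).trans ?_
      rw [← act_mul, sg_mul_sg hw.1, CharTwo.add_self_eq_zero, stv_zero_right, act_one]
    suffices h : g2 ∈ K by
      have e : g = m * ((sg a (pj a b d) (φ (pj a b d)))⁻¹ * g2) := by
        rw [hg2d, hg1d]; group
      rw [e]
      exact K.mul_mem (hM hm) (K.mul_mem (K.inv_mem (hM (P.memA_gen hw))) h)
    have hWst : ∀ {k : G}, k ∈ P.iso → act k a = a → act k b = b →
        ∀ w ∈ perp2 a b, act k w ∈ perp2 a b := fun {k} hk hka hkb w hw =>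
      ⟨by conv_lhs => rw [← hka, hsp hk]; exact hw.1,
       by conv_lhs => rw [← hkb, hsp hk]; exact hw.2⟩
    obtain ⟨v, hv, hφv⟩ := P.surj hn 1
    have hv0 : v ≠ 0 := fun h => by simp [h, P.zero] at hφv
    obtain ⟨y, hy, hvy⟩ := exists_partner P.hab hv hv0
    -- coordinates in the plane
    have hcoord : ∀ x ∈ perp2 a b, x = fm x y • v + fm x v • y := by
      let T : perp2 a b → F × F := fun x => (fm x.1 y, fm x.1 v)
      have hs : Function.Surjective T := fun p =>
        ⟨⟨p.1 • v + p.2 • y, Submodule.add_mem _ (Submodule.smul_mem _ _ hv) (Submodule.smul_mem _ _ hy)⟩, by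
          simp [T, form_add_left, form_smul_left, form_self, hvy, fm_comm y v]⟩
      have hb := hs.bijective_of_nat_card_le (by
        rw [card_perp2 P.hab, Nat.card_prod, hn2, sq])
      intro x hx
      refine congrArg Subtype.val (hb.1 (a₁ := ⟨x, hx⟩) (a₂ := ⟨_, Submodule.add_mem _
        (Submodule.smul_mem _ (fm x y) hv) (Submodule.smul_mem _ (fm x v) hy)⟩) ?_)
      simp [T, form_add_left, form_smul_left, form_self, hvy, fm_comm y v]
    obtain ⟨g3, hg3, h3a, h3b, h3v, hback⟩ : ∃ g3 ∈ P.iso, act g3 a = a ∧ act g3 b = b ∧ act g3 v = v ∧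
        (g3 ∈ K → g2 ∈ K) := by
      have hx := hWst hg2 h2a h2b v hv
      set x := act g2 v
      have hqx : φ x = 1 := by rw [← P.qf_of_mem hx, mem_iso.1 hg2, P.qf_of_mem hv, hφv]
      by_cases hxv : fm x v = 0
      · refine ⟨g2, hg2, h2a, h2b, ?_, id⟩
        have e := hcoord x hx
        rw [hxv, zero_smul, add_zero] at e
        rcases hF' (fm x y) with h | h
        · rw [h, zero_smul] at e
          rw [e, P.zero] at hqx
          exact absurd hqx zero_ne_one
        · rwa [h, one_smul] at e
      · replace hxv : fm x v = 1 := (hF' _).resolve_left hxv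
        have hq : P.qf (x + v) = 1 := by
          rw [P.qf_add, P.qf_of_mem hx, P.qf_of_mem hv, hqx, hφv, hxv, CharTwo.add_self_eq_zero, zero_add]
        have hr := hR (x + v) (by rw [hq]; exact one_ne_zero)
        have hri := P.stv_mem_iso (x := x + v) (by rw [hq]; exact one_ne_zero)
        rw [hq, inv_one] at hr hri
        have hxv' := Submodule.add_mem _ hx hv
        refine ⟨stv (x + v) 1 * g2, P.iso.mul_mem hri hg2, ?_, ?_, ?_,
          fun h => by simpa using K.mul_mem (K.inv_mem hr) h⟩
        · rw [act_mul, h2a, act, stv_mulVec, one_mul, fm_comm a, hxv'.1, zero_smul, add_zero]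
        · rw [act_mul, h2b, act, stv_mulVec, one_mul, fm_comm b, hxv'.2, zero_smul, add_zero]
        · rw [act_mul, act, stv_mulVec, one_mul, show act g2 v = x from rfl, form_add_right, form_self, hxv,
            zero_add, one_smul, ← add_assoc, add_self, zero_add]
    refine hback ?_
    have hy' := hWst hg3 h3a h3b y hy
    have hyv : fm (act g3 y) v = 1 := by
      have := hsp hg3 y v
      rw [h3v] at this
      rw [this, fm_comm, hvy]
    have e := hcoord _ hy'
    rw [hyv, one_smul] at e
    have ext4 : ∀ k : G, act k a = act g3 a → act k b = act g3 b → act k v = act g3 v →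
        act k y = act g3 y → k = g3 := fun k e1 e2 e3 e4 => gl_ext_mulVec fun u => by
      show act k u = act g3 u
      rw [pj_decomp (a := a) (b := b) u, hcoord _ (pj_mem P.hab u)]
      simp only [act_add, act_smul, e1, e2, e3, e4]
    rcases hF' (fm (act g3 y) y) with h | h
    · rw [h, zero_smul, zero_add] at e
      rw [← ext4 1 (by rw [act_one, h3a]) (by rw [act_one, h3b]) (by rw [act_one, h3v])
        (by rw [act_one]; exact e.symm)]
      exact K.one_mem
    · have hrv := hR v (by rw [P.qf_of_mem hv, hφv]; exact one_ne_zero)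
      rw [P.qf_of_mem hv, hφv, inv_one] at hrv
      rw [← ext4 (stv v 1) ?_ ?_ ?_ ?_]
      · exact hrv
      · rw [h3a, act, stv_mulVec, fm_comm a v, hv.1, mul_zero, zero_smul, add_zero]
      · rw [h3b, act, stv_mulVec, fm_comm b v, hv.2, mul_zero, zero_smul, add_zero]
      · rw [h3v, act, stv_mulVec, form_self, mul_zero, zero_smul, add_zero]
      · rw [e, h, one_smul, act, stv_mulVec, fm_comm y v, hvy, mul_one, one_smul, add_comm]

theorem pairGroup_even {Q : QuadraticForm F E} (hQ : (QuadraticMap.polarBilin Q).Nondegenerate)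
    {g : oGroup Q} (hg : g ∈ pairGroup Q) : Even (Module.finrank F (fixSp g)) := by
  have step : ∀ u v : E, Q u ≠ 0 → Q v ≠ 0 → ∀ h : oGroup Q, Even (Module.finrank F (fixSp h)) →
      Even (Module.finrank F (fixSp (refl Q u * refl Q v * h))) := by
    intro u v hu hv h he
    rw [mul_assoc]
    rcases finrank_fixSp_refl_mul hQ (refl Q v * h) hu with h1 | h1 <;>
      rcases finrank_fixSp_refl_mul hQ h hv with h2 | h2 <;>
      · rw [Nat.even_iff] at he ⊢
        omega
  induction hg using Subgroup.closure_induction_left with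
  | one =>
    have htop : fixSp (1 : oGroup Q) = ⊤ := Submodule.eq_top_iff'.2 fun x => mem_fixSp.2 rfl
    rw [htop, finrank_top, Module.finrank_fintype_fun_eq_card, Fintype.card_sum, Fintype.card_fin]
    exact ⟨n, rfl⟩
  | mul_left x hx y _ hy =>
    obtain ⟨u, v, hu, hv, rfl⟩ := hx
    exact step u v hu hv y hy
  | inv_mul_cancel x hx y _ hy =>
    obtain ⟨u, v, hu, hv, rfl⟩ := hx
    rw [_root_.mul_inv_rev, refl_inv, refl_inv]
    exact step v u hv hu y hy

end CfsgLib.TvFree
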