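import Cfsg.Agent.TvFree.Trans

/-!
# Two sections in a group without transvections
-/

set_option autoImplicit false
set_option linter.unusedSectionVars false

namespace CfsgLib.TvFree

open Matrix Cfsg CfsgLib.Geo CfsgLib.Geo.SpTv
open CfsgLib.Symp (form form_add_left form_add_right form_smul_left form_smul_right form_self
  form_zero_left form_zero_right)

variable {n : ℕ} {F : Type*} [Field F] [CharP F 2]

local notation "E" => Fin n ⊕ Fin n → F
local notation "G" => GL (Fin n ⊕ Fin n) F
local notation "fm" => CfsgLib.Symp.form (l := Fin n) (R := F)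

theorem perp2_swap {a b w : E} (hw : w ∈ perp2 a b) : w ∈ perp2 b a := ⟨hw.2, hw.1⟩

theorem stv_comm {u v : E} (h : fm u v = 0) (c d : F) : stv u c * stv v d = (stv v d * stv u c : G) := by
  refine gl_ext_mulVec fun x => ?_
  simp only [mul_mulVec, stv_mulVec, form_add_left, form_smul_left, h, fm_comm v u, mul_zero, add_zero]
  abel

/-- Two sections at orthogonal centres multiply to a product of two transvections. -/
theorem orth_prod {c d : E} (h : fm c d = 0) (α β : F) :
    sg c d α * sg d c β = (stv c α * stv d β : G) := by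
  have h' : fm d c = 0 := (fm_comm d c).trans h
  refine gl_ext_mulVec fun x => ?_
  show act _ x = act _ x
  rw [act_mul, act_sg h', act_sg h]
  simp only [act, mul_mulVec, stv_mulVec, form_add_left, form_smul_left, form_self, h, h']
  match_scalars <;> ring_nf <;> simp [two_zero]

variable {L : Subgroup (GL (Fin n ⊕ Fin n) F)} {c d : Fin n ⊕ Fin n → F}
  {φc φd : (Fin n ⊕ Fin n → F) → F}

theorem orth_mem (hc : Sec L c φc) (hd : Sec L d φd) (h : fm c d = 0) :
    stv c (φc d) * stv d (φd c) ∈ L := by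
  rw [← orth_prod h]
  exact L.mul_mem (hc.mem d ((fm_comm d c).trans h)) (hd.mem c h)

theorem orth_right_ne (hL : NoTv L) (hc : Sec L c φc) (hd : Sec L d φd) (h : fm c d = 0) (hc0 : c ≠ 0)
    (hα : φc d ≠ 0) : φd c ≠ 0 := fun h0 => by
  have := orth_mem hc hd h
  rw [h0, stv_zero_right, mul_one] at this
  exact hα (hL.eq_zero hc0 this)

theorem orth_left_ne (hL : NoTv L) (hc : Sec L c φc) (hd : Sec L d φd) (h : fm c d = 0) (hd0 : d ≠ 0)
    (hβ : φd c ≠ 0) : φc d ≠ 0 := fun h0 => by
  have := orth_mem hc hd h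
  rw [h0, stv_zero_right, one_mul] at this
  exact hβ (hL.eq_zero hd0 this)

theorem orth_line (hLs : L ≤ spGL n F) (hL : NoTv L) (hc : Sec L c φc) (hd : Sec L d φd) (h : fm c d = 0)
    (hc0 : c ≠ 0) (hdc : d ∉ F ∙ c) (hα : φc d ≠ 0) (μ : F) : φc (μ • d) = μ ^ 2 / φd c := by
  have hβ := orth_right_ne hL hc hd h hc0 hα
  set α := φc d
  set β := φd c
  set ν := μ / β
  obtain ⟨y, hy, hdy⟩ := exists_form_of_notMem (F ∙ c) hdc
  have hyc : fm (ν • y) c = 0 := by
    rw [form_smul_left, fm_comm y c, hy c (Submodule.mem_span_singleton_self c), mul_zero]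
  have hP := orth_mem hc hd h
  have hA := hc.mem _ hyc
  have hd' : fm d c = 0 := (fm_comm d c).trans h
  have h1 := L.mul_mem (L.mul_mem hA hP) (L.inv_mem hA)
  rw [show sg c (ν • y) (φc (ν • y)) * (stv c α * stv d β) * (sg c (ν • y) (φc (ν • y)))⁻¹ =
      (sg c (ν • y) (φc (ν • y)) * stv c α * (sg c (ν • y) (φc (ν • y)))⁻¹) *
      (sg c (ν • y) (φc (ν • y)) * stv d β * (sg c (ν • y) (φc (ν • y)))⁻¹) by group,
    stv_conj (hLs hA), stv_conj (hLs hA)] at h1
  change stv (act _ c) α * stv (act _ d) β ∈ L at h1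
  simp only [act_sg hyc, form_self, hd', fm_comm c (ν • y), hyc, zero_smul, add_zero, form_smul_right, hdy,
    mul_one] at h1
  have h2 := L.mul_mem h1 hP
  have hcomm : fm (d + ν • c) c = 0 := by rw [form_add_left, form_smul_left, hd', form_self, mul_zero, add_zero]
  rw [stv_comm ((fm_comm c _).trans hcomm) α β, mul_assoc, ← mul_assoc (stv c α), stv_add,
    CharTwo.add_self_eq_zero, stv_zero_right, one_mul, tv_mul_tv hd'] at h2
  have h3 := hc.unique hL hc0 (by rw [form_smul_left, hd', mul_zero]) h2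
  rw [show β * ν = μ from mul_div_cancel₀ μ hβ] at h3
  rw [h3]
  simp only [ν]
  field_simp

/-- Over fields with more than two elements orthogonal centres see each other with value zero. -/
theorem orth_zero (hLs : L ≤ spGL n F) (hL : NoTv L) (hc : Sec L c φc) (hd : Sec L d φd) (h : fm c d = 0)
    (hc0 : c ≠ 0) (hdc : d ∉ F ∙ c) (hF : ∃ t : F, t ≠ 0 ∧ t ≠ 1) : φc d = 0 := by
  by_contra hα
  have hβ := orth_right_ne hL hc hd h hc0 hα
  have h1 := orth_line hLs hL hc hd h hc0 hdc hα
  have hconst : ∀ ν : F, ν ≠ 0 → φd (ν • c) = φd c := by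
    intro ν hν
    have h2 : φc (ν • d) ≠ 0 := by rw [h1]; exact div_ne_zero (pow_ne_zero 2 hν) hβ
    have h3 := orth_line hLs hL hc (hd.smul hν) (by rw [form_smul_right, h, mul_zero]) hc0
      (fun hm => hdc ((Submodule.smul_mem_iff _ hν).1 hm)) h2 1
    rw [one_smul, one_pow, h1] at h3
    have h4 : φd (ν • c) ≠ 0 := by
      intro h0
      rw [h0, zero_div, div_zero] at h3
      exact h2 (by rw [h1]; exact h3)
    field_simp at h3
    first | exact h3 | exact h3.symm
  obtain ⟨t, ht0, ht1⟩ := hF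
  have hs : (1 + t : F) ≠ 0 := fun h0 => ht1 (CharTwo.add_eq_zero.1 h0).symm
  have h5 := hconst _ hs
  rw [add_smul, one_smul, hd.add c _ h (by rw [form_smul_left, h, mul_zero]), hconst t ht0,
    CharTwo.add_self_eq_zero, zero_add, form_smul_right, form_self, mul_zero] at h5
  exact hβ h5.symm

theorem orth_eq_two (hL : NoTv L) (hc : Sec L c φc) (hd : Sec L d φd) (h : fm c d = 0) (hc0 : c ≠ 0)
    (hd0 : d ≠ 0) (hF : ∀ t : F, t = 0 ∨ t = 1) : φc d = φd c := by
  by_cases h0 : φc d = 0
  · rw [h0]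
    by_contra hne
    exact orth_left_ne hL hc hd h hd0 (fun e => hne e.symm) h0
  · rw [(hF _).resolve_left h0, (hF _).resolve_left (orth_right_ne hL hc hd h hc0 h0)]

variable {a b : Fin n ⊕ Fin n → F} {φ ψ : (Fin n ⊕ Fin n → F) → F}

theorem zero_line (hLs : L ≤ spGL n F) (hL : NoTv L) (hF : ∃ t : F, t ≠ 0 ∧ t ≠ 1) (ha : Sec L a φ)
    (hb : Sec L b ψ) (hab : fm a b = 1) {z : E} (hz : z ∈ perp2 a b) (h0 : φ z = 0) (μ : F) :
    ψ (μ • z) = 0 := by
  by_cases hz0 : z = 0
  · rw [hz0, smul_zero, hb.zero]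
  by_cases hμ : μ = 0
  · rw [hμ, zero_smul, hb.zero]
  have hb0 : b ≠ 0 := fun h => by simp [h, form_zero_right] at hab
  have hc := (hb.conj hLs (ha.mem z hz.1)).smul hμ
  rw [act_sg_b hab hz, h0, zero_smul, add_zero] at hc
  have hzb : fm z b = 0 := hz.2
  have hbc : fm b (μ • (b + z)) = 0 := by
    rw [form_smul_right, form_add_right, form_self, fm_comm b z, hzb, add_zero, mul_zero]
  have hnot : μ • (b + z) ∉ F ∙ b := fun hm => by
    obtain ⟨t, ht⟩ := Submodule.mem_span_singleton.1 ((Submodule.smul_mem_iff _ hμ).1 hm)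
    have h1 := congrArg (fun v => fm a v) ht
    simp only [form_smul_right, form_add_right, hab, fm_comm a z, hz.1, mul_one, add_zero] at h1
    rw [h1, one_smul] at ht
    exact hz0 (add_eq_left.1 ht.symm)
  have h2 := orth_zero hLs hL hb hc hbc hb0 hnot hF
  rw [smul_add, add_comm, hb.add_smul_self (by rw [form_smul_left, hzb, mul_zero])] at h2
  exact h2

/-- The functions vanish together, with degree two, once there is a non-trivial zero. -/
theorem pair_of_zero (ha : Sec L a φ) (hb : Sec L b ψ) (hab : fm a b = 1)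
    (hz : ∀ z ∈ perp2 a b, φ z = 0 → ∀ μ : F, φ (μ • z) = 0 ∧ ψ (μ • z) = 0)
    {e : E} (he : e ∈ perp2 a b) (he0 : e ≠ 0) (hφe : φ e = 0) :
    ∀ w ∈ perp2 a b, ∀ μ : F, φ (μ • w) = μ ^ 2 * φ w ∧ ψ (μ • w) = μ ^ 2 * φ w := by
  let P : E → Prop := fun w => ∀ μ : F, φ (μ • w) = μ ^ 2 * φ w ∧ ψ (μ • w) = μ ^ 2 * φ w
  have hzero : ∀ z ∈ perp2 a b, φ z = 0 → P z := fun z hzm h0 μ => by
    simp [hz z hzm h0 μ, h0]
  have hadd : ∀ u ∈ perp2 a b, ∀ v ∈ perp2 a b, P u → P v → P (u + v) := by
    intro u hu v hv pu pv μ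
    have m1 := Submodule.smul_mem _ μ hu
    have m2 := Submodule.smul_mem _ μ hv
    rw [smul_add, ha.add _ _ m1.1 m2.1, hb.add _ _ m1.2 m2.2, (pu μ).1, (pv μ).1, (pu μ).2, (pv μ).2,
      ha.add _ _ hu.1 hv.1, form_smul_left, form_smul_right]
    constructor <;> ring
  have hsmul : ∀ (ν : F) (w : E), P w → P (ν • w) := fun ν w pw μ => by
    rw [smul_smul, (pw (μ * ν)).1, (pw (μ * ν)).2, (pw ν).1]
    constructor <;> ring
  have h1 : ∀ w ∈ perp2 a b, fm e w = 1 → P w := by
    intro w hw hew
    have m1 := Submodule.smul_mem (perp2 a b) (φ w) he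
    have hs := hzero _ (Submodule.add_mem _ hw m1) (by
      rw [ha.add _ _ hw.1 m1.1, (hzero e he hφe (φ w)).1, hφe, mul_zero, add_zero, form_smul_right,
        fm_comm w e, hew, mul_one, CharTwo.add_self_eq_zero])
    have := hadd _ (Submodule.add_mem _ hw m1) _ m1 hs (hsmul (φ w) e (hzero e he hφe))
    rwa [add_add_cancel] at this
  obtain ⟨w1, hw1, hew1⟩ := exists_partner hab he he0
  have h2 : ∀ w ∈ perp2 a b, fm e w ≠ 0 → P w := by
    intro w hw hew
    have := hsmul (fm e w) _ (h1 ((fm e w)⁻¹ • w) (Submodule.smul_mem _ _ hw)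
      (by rw [form_smul_right, inv_mul_cancel₀ hew]))
    rwa [smul_smul, mul_inv_cancel₀ hew, one_smul] at this
  intro w hw
  by_cases hew : fm e w = 0
  · have := hadd _ (Submodule.add_mem _ hw hw1) _ hw1
      (h1 _ (Submodule.add_mem _ hw hw1) (by rw [form_add_right, hew, hew1, zero_add])) (h1 _ hw1 hew1)
    rwa [add_add_cancel] at this
  · exact h2 w hw hew

theorem Sec.exists_zero [Finite F] (ha : Sec L a φ) (hn : 3 ≤ n) (hab : fm a b = 1) :
    ∃ e ∈ perp2 a b, e ≠ 0 ∧ φ e = 0 := by
  obtain ⟨e1, he1, h1, hh1, heh⟩ := exists_pair (by omega) hab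
  obtain ⟨e2, he2, h2, hh2, heh2, ⟨p1, p2⟩, q1, q2⟩ := exists_perp_pair hn hab he1 hh1 heh
  have hm : ∀ x y : F, x • e1 + y • h1 ∈ perp2 a b := fun x y =>
    Submodule.add_mem _ (Submodule.smul_mem _ _ he1) (Submodule.smul_mem _ _ hh1)
  obtain ⟨x, y, hxy⟩ := surj_line (φ := φ) heh (fun x y x' y' => ha.add _ _ (hm x y).1 (hm x' y').1) (φ e2)
  refine ⟨_, Submodule.add_mem _ (hm x y) he2, fun h => ?_, ?_⟩
  · have h' := congrArg (fun v => fm v h2) h
    simp [form_add_left, form_smul_left, form_zero_left, heh2, fm_comm e1 h2, fm_comm h1 h2, q1, q2] at h'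
  · rw [ha.add _ _ (hm x y).1 he2.1, hxy, CharTwo.add_self_eq_zero, zero_add]
    simp [form_add_left, form_smul_left, fm_comm e1 e2, fm_comm h1 e2, p1, p2]

/-- Over the field of two elements: a zero of `φ` with a suitable partner is a zero of `ψ`. -/
theorem two_zero_core (hLs : L ≤ spGL n F) (hL : NoTv L) (hF : ∀ t : F, t = 0 ∨ t = 1)
    (ha : Sec L a φ) (hb : Sec L b ψ) (hab : fm a b = 1) {z : E} (hz : z ∈ perp2 a b) (h0 : φ z = 0)
    {w : E} (hw : w ∈ perp2 a b) (hzw : fm z w = 1) (hψw : ψ w = 1) : ψ z = 0 := by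
  have hba : fm b a = 1 := (fm_comm b a).trans hab
  have hA := ha.mem z hz.1
  have hB := hb.mem w hw.2
  have hc := hb.conj hLs hA
  have hd := ha.conj hLs hB
  rw [sg_inv hz.1, act_sg_b hab hz, h0, zero_smul, add_zero] at hc
  rw [sg_inv hw.2, act_sg_b hba (perp2_swap hw), hψw, one_smul] at hd
  have hcd : fm (b + z) (a + w + b) = 0 := by
    simp [form_add_left, form_add_right, form_self, hba, hz.1, hz.2, fm_comm b w, hw.2, hzw,
      CharTwo.add_self_eq_zero]
  have hca : fm (b + z) a = 1 := by rw [form_add_left, hba, hz.1, add_zero]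
  have h1 := orth_eq_two hL hc hd hcd
    (fun h => by simp [h, form_zero_left] at hca)
    (fun h => by
      have h' := congrArg (fun v => fm v b) h
      simp [form_add_left, form_zero_left, form_self, hab, hw.2] at h') hF
  beta_reduce at h1
  rw [act_sg hz.1, act_sg hw.2] at h1
  simp only [form_add_left, form_self, hab, hba, hz.1, hz.2, hw.1, hw.2, fm_comm a z, fm_comm b z,
    fm_comm a w, fm_comm b w, fm_comm w z, hzw, zero_add, add_zero, one_smul, zero_smul, h0, hψw] at h1
  rw [show a + w + b + z + a = (z + w) + (1 : F) • b by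
      match_scalars <;> ring_nf <;> simp [two_zero],
    show b + z + b = z + (0 : F) • a by match_scalars <;> ring_nf <;> simp [two_zero],
    hb.add_smul_self (by rw [form_add_left, hz.2, hw.2, add_zero]), hb.add _ _ hz.2 hw.2, hψw, hzw,
    ha.add_smul_self hz.1, h0, add_assoc, CharTwo.add_self_eq_zero, add_zero] at h1
  exact h1

/-- Over the field of two elements and for rank at least three the zeros agree. -/
theorem two_zero_imp (hLs : L ≤ spGL n F) (hL : NoTv L) (hn : 3 ≤ n) (hF : ∀ t : F, t = 0 ∨ t = 1)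
    (ha : Sec L a φ) (hb : Sec L b ψ) (hab : fm a b = 1) {z : E} (hz : z ∈ perp2 a b) (h0 : φ z = 0) :
    ψ z = 0 := by
  by_cases hz0 : z = 0
  · rw [hz0, hb.zero]
  obtain ⟨w0, hw0, hzw0⟩ := exists_partner hab hz hz0
  obtain ⟨w, hw, hzw, hψw⟩ : ∃ w ∈ perp2 a b, fm z w = 1 ∧ ψ w = 1 := by
    rcases hF (ψ w0) with h | h
    · obtain ⟨e, he, h', hh', heh, ⟨p1, p2⟩, q1, q2⟩ := exists_perp_pair hn hab hz hw0 hzw0
      have key : ∀ u ∈ perp2 a b, u ∈ perp2 z w0 → ψ u = 1 → ∃ w ∈ perp2 a b, fm z w = 1 ∧ ψ w = 1 :=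
        fun u hu hu' h1 => ⟨w0 + u, Submodule.add_mem _ hw0 hu,
          by rw [form_add_right, hzw0, fm_comm z u, hu'.1, add_zero],
          by rw [hb.add _ _ hw0.2 hu.2, h, h1, fm_comm w0 u, hu'.2, zero_add, add_zero]⟩
      rcases hF (ψ e) with h1 | h1
      · rcases hF (ψ h') with h2 | h2
        · exact key (e + h') (Submodule.add_mem _ he hh') (Submodule.add_mem _ ⟨p1, p2⟩ ⟨q1, q2⟩)
            (by rw [hb.add _ _ he.2 hh'.2, h1, h2, heh, zero_add, zero_add])
        · exact key h' hh' ⟨q1, q2⟩ h2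
      · exact key e he ⟨p1, p2⟩ h1
    · exact ⟨w0, hw0, hzw0, h⟩
  exact two_zero_core hLs hL hF ha hb hab hz h0 hw hzw hψw

/-- The anisotropic case over a larger field. -/
theorem aniso_case [Finite F] (hn : 2 ≤ n) (hLs : L ≤ spGL n F) (hL : NoTv L) (hF : ∃ t : F, t ≠ 0 ∧ t ≠ 1)
    (ha : Sec L a φ) (hb : Sec L b ψ) (hab : fm a b = 1) (han : ∀ v ∈ perp2 a b, φ v = 0 → v = 0) :
    ∀ v ∈ perp2 a b, ∀ μ : F, φ (μ • v) = μ ^ 2 * φ v ∧ ψ (μ • v) = μ ^ 2 * φ v := by
  have hba : fm b a = 1 := (fm_comm b a).trans hab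
  have han' : ∀ v ∈ perp2 a b, ψ v = 0 → v = 0 := fun v hv h0 => by
    have := zero_line hLs hL hF hb ha hba (perp2_swap hv) h0 1
    rw [one_smul] at this
    exact han v hv this
  have key : ∀ v ∈ perp2 a b, v ≠ 0 → ∀ x : F,
      φ ((φ v * x) • v) = φ v ^ 2 * ψ (x • v) := by
    intro v hv hv0 x
    set k := φ v with hk
    have hk0 : k ≠ 0 := fun h => hv0 (han v hv h)
    have hu := Submodule.smul_mem (perp2 a b) k⁻¹ hv
    have hψ : ψ (k⁻¹ • v) = k⁻¹ := by
      by_contra hne
      set e := 1 + k * ψ (k⁻¹ • v) with he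
      have he0 : e ≠ 0 := fun h => hne (eq_inv_of_mul_eq_one_right (CharTwo.add_eq_zero.1 h).symm)
      obtain ⟨u, hu', hue⟩ := hb.surj hn hba (e / k)
      have hum : u ∈ perp2 a b := perp2_swap hu'
      have hu0 : u ≠ 0 := fun h => div_ne_zero he0 hk0 (by rw [← hue, h, hb.zero])
      set w := u + k⁻¹ • v with hw
      have hwm : w ∈ perp2 a b := Submodule.add_mem _ hum hu
      set l := ψ w with hl
      have hkl : k * l = 1 + fm u v := by
        rw [hl, hw, hb.add _ _ hum.2 hu.2, hue, he, form_smul_right]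
        field_simp
        ring_nf
        simp [two_zero]
      have hc := hb.conj hLs (ha.mem v hv.1)
      have hd := ha.conj hLs (hb.mem w hwm.2)
      rw [sg_inv hv.1, act_sg_b hab hv, ← hk] at hc
      rw [sg_inv hwm.2, act_sg_b hba (perp2_swap hwm), ← hl] at hd
      have hwv : fm w v = fm u v := by rw [hw, form_add_left, form_smul_left, form_self, mul_zero, add_zero]
      have hcd : fm (b + v + k • a) (a + w + l • b) = 0 := by
        simp only [form_add_left, form_add_right, form_smul_left, form_smul_right, form_self, hba, hab, hv.1,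
          hv.2, fm_comm b w, hwm.2, fm_comm a w, hwm.1, fm_comm v w, hwv, mul_zero, zero_add, add_zero]
        rw [mul_one, mul_comm l k, hkl]
        ring_nf
        simp [two_zero]
      have hnot : a + w + l • b ∉ F ∙ (b + v + k • a) := by
        intro hm
        obtain ⟨t, ht⟩ := Submodule.mem_span_singleton.1 hm
        have ea := congrArg (fun x => fm x a) ht
        have eb := congrArg (fun x => fm x b) ht
        simp only [form_smul_left, form_add_left, form_self, hba, hab, hv.1, hv.2, hwm.1, hwm.2, mul_one,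
          mul_zero, add_zero, zero_add] at ea eb
        subst ea
        rw [smul_add, smul_add, smul_smul, eb, one_smul] at ht
        have h2 : l • v = w := by
          linear_combination (norm := module) ht
        rw [← mul_inv_cancel_right₀ hk0 l, eb, one_mul, hw] at h2
        exact hu0 (add_eq_right.1 h2.symm)
      have hz : ∀ μ : F, ψ (μ • (w + l • v)) = 0 := by
        intro μ
        by_cases hμ : μ = 0
        · rw [hμ, zero_smul, hb.zero]
        have h1 := orth_zero hLs hL hc (hd.smul hμ) (by rw [form_smul_right, hcd, mul_zero])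
          (fun h => by
            have h' := congrArg (fun x => fm x a) h
            simp [form_add_left, form_smul_left, form_zero_left, form_self, hba, hv.1] at h')
          (fun hm => hnot ((Submodule.smul_mem_iff _ hμ).1 hm)) hF
        beta_reduce at h1
        rw [act_smul, act_sg hv.1] at h1
        simp only [form_add_left, form_smul_left, form_self, hba, hab, hwm.1, fm_comm a v, hv.1, fm_comm b v,
          hv.2, hwv, mul_one, mul_zero, add_zero, zero_add] at h1
        rw [show μ • (a + w + l • b + l • (v + φ v • a) + fm u v • a) = μ • (w + l • v) + (μ * l) • b by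
            rw [← hk]
            match_scalars <;> (ring_nf; try simp [two_zero])
            linear_combination μ * hkl + (μ + μ * fm u v) * (two_zero : (2 : F) = 0),
          hb.add_smul_self (Submodule.smul_mem _ μ (Submodule.add_mem _ hwm (Submodule.smul_mem _ l hv))).2] at h1
        exact h1
      have h0 := han' _ (Submodule.add_mem _ hwm (Submodule.smul_mem _ l hv)) (by simpa using hz 1)
      rw [hw, add_assoc, ← add_smul] at h0
      have huv : fm u v = 0 := by
        have h1 := congrArg (fun x => fm x v) h0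
        simpa [form_add_left, form_smul_left, form_self, form_zero_left] using h1
      rw [huv, add_zero] at hkl
      rw [show k⁻¹ + l = 0 by rw [← eq_inv_of_mul_eq_one_right hkl, CharTwo.add_self_eq_zero], zero_smul,
        add_zero] at h0
      exact hu0 h0
    have hh := L.mul_mem (L.mul_mem (ha.mem v hv.1) (hb.mem _ hu.2)) (ha.mem v hv.1)
    rw [hψ, ← hk] at hh
    set h := sg a v k * sg b (k⁻¹ • v) k⁻¹ * sg a v k
    have hhb : act h b = k • a := by
      simp only [h, act_mul]
      rw [act_sg_b hab hv, act_sg hu.2, act_sg hv.1]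
      simp only [form_add_left, form_smul_left, form_smul_right, form_self, hba, hab, hv.1, hv.2, fm_comm b v,
        fm_comm a v, mul_zero, zero_mul, add_zero, zero_add]
      match_scalars <;> field_simp <;> ring_nf <;> (try simp [two_zero, show (4 : F) = 0 by linear_combination (2 : F) * (two_zero : (2 : F) = 0),
        show (3 : F) = 1 by linear_combination (two_zero : (2 : F) = 0)])
    have hhv : act h (x • v) = x • v := by
      simp only [h, act_mul]
      simp [act_sg hv.1, act_sg hu.2, form_smul_left, form_smul_right, form_self, hv.1, hv.2]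
    have h1 := (hb.conj hLs hh).mem (x • v) (by
      rw [hhb, form_smul_left, form_smul_right, hv.1, mul_zero, mul_zero])
    beta_reduce at h1
    rw [hhb, sg_smul (by rw [form_smul_left, hv.1, mul_zero]), smul_smul,
      show act h⁻¹ (x • v) = x • v by conv_lhs => rw [← hhv, act_inv']] at h1
    exact ha.unique hL (fun e => by simp [e, form_zero_left] at hab)
      (by rw [form_smul_left, hv.1, mul_zero]) h1
  intro v hv
  by_cases hv0 : v = 0
  · intro μ; simp [hv0, ha.zero, hb.zero]
  let g : F → F := fun t => φ (t • v)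
  have hgi : Function.Injective g := fun s t hst => by
    have h1 := han ((s + t) • v) (Submodule.smul_mem _ _ hv) (by
      rw [add_smul, ha.add _ _ (Submodule.smul_mem _ s hv).1 (Submodule.smul_mem _ t hv).1, form_smul_left,
        form_smul_right, form_self, mul_zero, mul_zero, add_zero]
      exact (congrArg (· + g t) hst).trans (CharTwo.add_self_eq_zero _))
    exact CharTwo.add_eq_zero.1 ((smul_eq_zero.1 h1).resolve_right hv0)
  have hgx : ∀ c x : F, φ ((c * x) • v) = c ^ 2 * ψ (x • v) := by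
    intro c x
    obtain ⟨t, rfl⟩ := Finite.injective_iff_surjective.1 hgi c
    by_cases ht : t = 0
    · simp [g, ht, ha.zero]
    have h1 := key (t • v) (Submodule.smul_mem _ _ hv) (smul_ne_zero ht hv0) (x / t)
    rwa [smul_smul, smul_smul, mul_assoc, div_mul_cancel₀ x ht] at h1
  intro μ
  have h1 : ∀ x : F, φ (x • v) = ψ (x • v) := fun x => by simpa using hgx 1 x
  have h2 : φ (μ • v) = μ ^ 2 * φ v := by
    have := hgx μ 1
    rwa [mul_one, ← h1, one_smul] at this
  exact ⟨h2, (h1 μ).symm.trans h2⟩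

/-- Without transvections two sections form a homogeneous pair, apart from `Sp₄(2)`. -/
theorem notv_pair [Finite F] (hn : 2 ≤ n) (hLs : L ≤ spGL n F) (hL : NoTv L)
    (hbig : (∃ t : F, t ≠ 0 ∧ t ≠ 1) ∨ 3 ≤ n)
    (ha : Sec L a φ) (hb : Sec L b ψ) (hab : fm a b = 1) :
    Pair L a b φ ∧ ∀ w ∈ perp2 a b, ψ w = φ w := by
  have hba : fm b a = 1 := (fm_comm b a).trans hab
  suffices h : ∀ w ∈ perp2 a b, ∀ μ : F, φ (μ • w) = μ ^ 2 * φ w ∧ ψ (μ • w) = μ ^ 2 * φ w by
    have he : ∀ w ∈ perp2 a b, ψ w = φ w := fun w hw => by simpa using (h w hw 1).2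
    exact ⟨⟨hab, fun w hw => ha.mem w hw.1, fun w hw => he w hw ▸ hb.mem w hw.2,
      fun u hu v hv => ha.add u v hu.1 hv.1, fun μ w hw => (h w hw μ).1⟩, he⟩
  by_cases hF : ∃ t : F, t ≠ 0 ∧ t ≠ 1
  · by_cases han : ∀ v ∈ perp2 a b, φ v = 0 → v = 0
    · exact aniso_case hn hLs hL hF ha hb hab han
    · push Not at han
      obtain ⟨e, he, he0, hne⟩ := han
      refine pair_of_zero ha hb hab (fun z hz h0 => ?_) he hne he0
      have h1 := zero_line hLs hL hF ha hb hab hz h0
      have h2 : ψ z = 0 := by simpa using h1 1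
      exact fun μ => ⟨zero_line hLs hL hF hb ha hba (perp2_swap hz) h2 μ, h1 μ⟩
  · have hn3 := hbig.resolve_left hF
    push Not at hF
    have hF' : ∀ t : F, t = 0 ∨ t = 1 := fun t => or_iff_not_imp_left.2 (hF t)
    obtain ⟨e, he, hne, he0⟩ := ha.exists_zero hn3 hab
    refine pair_of_zero ha hb hab (fun z hz h0 μ => ?_) he hne he0
    have h1 := two_zero_imp hLs hL hn3 hF' ha hb hab hz h0
    rcases hF' μ with rfl | rfl
    · simp [ha.zero, hb.zero]
    · simp [h0, h1]

end CfsgLib.TvFree
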