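import Cfsg.Agent.TvFree.Siegel

/-!
# The complement of a hyperbolic pair and functions on it with prescribed additive defect
-/

set_option autoImplicit false
set_option linter.unusedSectionVars false

namespace CfsgLib.TvFree

open Matrix Cfsg CfsgLib.Geo CfsgLib.Geo.SpTv
open CfsgLib.Symp (form form_add_left form_add_right form_smul_left form_smul_right form_self
  form_zero_left form_zero_right)

variable {n : ℕ} {F : Type*} [Field F] [CharP F 2]

local notation "E" => Fin n ⊕ Fin n → F
local notation "G" => GL (Fin n ⊕ Fin n) F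
local notation "fm" => CfsgLib.Symp.form (l := Fin n) (R := F)

/-- The projection along a hyperbolic pair onto its orthogonal complement. -/
def pj (a b u : Fin n ⊕ Fin n → F) : Fin n ⊕ Fin n → F :=
  u + CfsgLib.Symp.form u b • a + CfsgLib.Symp.form u a • b

variable {a b : Fin n ⊕ Fin n → F}

theorem pj_decomp (u : E) : u = pj a b u + fm u b • a + fm u a • b := by
  unfold pj
  match_scalars <;> ring_nf <;> simp [two_zero]

theorem pj_mem (hab : fm a b = 1) (u : E) : pj a b u ∈ perp2 a b := by
  constructor <;>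
    simp [pj, form_add_left, form_smul_left, form_self, hab, fm_comm b a, CharTwo.add_self_eq_zero]

theorem pj_of_mem {w : E} (hw : w ∈ perp2 a b) : pj a b w = w := by
  simp [pj, hw.1, hw.2]

theorem pj_add (u v : E) : pj a b (u + v) = pj a b u + pj a b v := by
  simp only [pj, form_add_left, add_smul]
  abel

theorem pj_smul (c : F) (u : E) : pj a b (c • u) = c • pj a b u := by
  simp only [pj, form_smul_left, smul_add, smul_smul]

theorem form_pj {x : E} (hx : x ∈ perp2 a b) (v : E) : fm x (pj a b v) = fm x v := by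
  simp [pj, form_add_right, form_smul_right, hx.1, hx.2]

theorem exists_notMem_span {k : ℕ} (hk : k < n + n) (v : Fin k → E) :
    ∃ x, x ∉ Submodule.span F (Set.range v) := by
  by_contra hc
  push Not at hc
  have h1 := finrank_range_le_card (R := F) v
  rw [Set.finrank, Submodule.eq_top_iff'.2 hc, finrank_top, Module.finrank_fintype_fun_eq_card,
    Fintype.card_sum, Fintype.card_fin, Fintype.card_fin] at h1
  omega

theorem exists_partner (hab : fm a b = 1) {w : E} (hw : w ∈ perp2 a b) (h0 : w ≠ 0) :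
    ∃ v ∈ perp2 a b, fm w v = 1 := by
  obtain ⟨v, hv⟩ := CfsgLib.Symp.exists_form_eq_one h0
  exact ⟨pj a b v, pj_mem hab v, by rw [form_pj hw, hv]⟩

theorem exists_pair (hn : 2 ≤ n) (hab : fm a b = 1) :
    ∃ e ∈ perp2 a b, ∃ h ∈ perp2 a b, fm e h = 1 := by
  obtain ⟨x, hx⟩ := exists_notMem_span (n := n) (by omega) ![a, b]
  have h0 : pj a b x ≠ 0 := by
    refine fun h => hx ?_
    rw [pj_decomp (a := a) (b := b) x, h, zero_add]
    exact Submodule.add_mem _ (Submodule.smul_mem _ _ (Submodule.subset_span ⟨0, rfl⟩))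
      (Submodule.smul_mem _ _ (Submodule.subset_span ⟨1, rfl⟩))
  exact ⟨_, pj_mem hab x, exists_partner hab (pj_mem hab x) h0⟩

theorem exists_perp_pair (hn : 3 ≤ n) (hab : fm a b = 1) {e h : E} (he : e ∈ perp2 a b)
    (hh : h ∈ perp2 a b) (heh : fm e h = 1) :
    ∃ e' ∈ perp2 a b, ∃ h' ∈ perp2 a b, fm e' h' = 1 ∧ e' ∈ perp2 e h ∧ h' ∈ perp2 e h := by
  have hcl : ∀ {u : E}, u ∈ perp2 a b → pj e h u ∈ perp2 a b := fun hu =>
    Submodule.add_mem _ (Submodule.add_mem _ hu (Submodule.smul_mem _ _ he)) (Submodule.smul_mem _ _ hh)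
  obtain ⟨x, hx⟩ := exists_notMem_span (n := n) (by omega) ![a, b, e, h]
  have h0 : pj e h (pj a b x) ≠ 0 := by
    refine fun h' => hx ?_
    rw [pj_decomp (a := a) (b := b) x, pj_decomp (a := e) (b := h) (pj a b x), h', zero_add]
    exact Submodule.add_mem _ (Submodule.add_mem _ (Submodule.add_mem _
      (Submodule.smul_mem _ _ (Submodule.subset_span ⟨2, rfl⟩))
      (Submodule.smul_mem _ _ (Submodule.subset_span ⟨3, rfl⟩)))
      (Submodule.smul_mem _ _ (Submodule.subset_span ⟨0, rfl⟩)))
      (Submodule.smul_mem _ _ (Submodule.subset_span ⟨1, rfl⟩))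
  have m1 := hcl (pj_mem hab x)
  obtain ⟨v, hv, hev⟩ := exists_partner hab m1 h0
  exact ⟨_, m1, _, hcl hv, by rw [form_pj (pj_mem heh _), hev], pj_mem heh _, pj_mem heh _⟩

/-- A function with additive defect `fm` restricted to a hyperbolic line takes every value. -/
theorem surj_line [Finite F] {φ : E → F} {e h : E} (heh : fm e h = 1)
    (hadd : ∀ x y x' y' : F, φ ((x • e + y • h) + (x' • e + y' • h)) =
      φ (x • e + y • h) + φ (x' • e + y' • h) + fm (x • e + y • h) (x' • e + y' • h))
    (l : F) : ∃ x y : F, φ (x • e + y • h) = l := by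
  set g : F → F → F := fun x y => φ (x • e + y • h) with hg
  have key : ∀ x y y', g x (y + y') = g x y + g 0 y' + x * y' := by
    intro x y y'
    have := hadd x y 0 y'
    rw [show (x • e + y • h) + ((0 : F) • e + y' • h) = x • e + (y + y') • h by module] at this
    simp only [hg, this, form_add_left, form_smul_left, form_smul_right, form_add_right, form_self, heh,
      zero_smul, form_zero_right, zero_add, mul_zero, mul_one, add_zero, fm_comm h e]
    ring
  have g00 : g 0 0 = 0 := by
    have := key 0 0 0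
    rw [add_zero, mul_zero, add_zero] at this
    exact add_eq_left.1 this.symm
  obtain ⟨x, hx⟩ : ∃ x : F, ∀ y, y ≠ 0 → g 0 y ≠ x * y := by
    by_contra hc
    push Not at hc
    choose Y hY0 hY using hc
    have hinj : Function.Injective Y := fun x x' hxx => by
      have := hY x
      rw [hxx, hY x'] at this
      exact (mul_right_cancel₀ (hY0 x') this).symm
    obtain ⟨x, hx⟩ := Finite.injective_iff_surjective.1 hinj 0
    exact hY0 x hx
  have hinj : Function.Injective (g x) := fun y y' hyy => by
    have h1 := key x y (y + y')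
    rw [show y + (y + y') = y' by rw [← add_assoc, CharTwo.add_self_eq_zero, zero_add], ← hyy, add_assoc,
      left_eq_add, CharTwo.add_eq_zero] at h1
    by_contra hne
    exact hx (y + y') (fun h => hne (CharTwo.add_eq_zero.1 h)) h1
  obtain ⟨y, hy⟩ := Finite.injective_iff_surjective.1 hinj l
  exact ⟨x, y, hy⟩

theorem Sec.surj [Finite F] {L : Subgroup G} {φ : E → F} (h : Sec L a φ) (hn : 2 ≤ n) (hab : fm a b = 1)
    (l : F) : ∃ w ∈ perp2 a b, φ w = l := by
  obtain ⟨e, he, h', hh, heh⟩ := exists_pair hn hab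
  have hm : ∀ x y : F, x • e + y • h' ∈ perp2 a b := fun x y =>
    Submodule.add_mem _ (Submodule.smul_mem _ _ he) (Submodule.smul_mem _ _ hh)
  obtain ⟨x, y, hxy⟩ := surj_line heh (fun x y x' y' => h.add _ _ (hm x y).1 (hm x' y').1) l
  exact ⟨_, hm x y, hxy⟩

/-- Two sections agreeing on a common complement and homogeneous of degree two there. -/
structure Pair (L : Subgroup (GL (Fin n ⊕ Fin n) F)) (a b : Fin n ⊕ Fin n → F)
    (φ : (Fin n ⊕ Fin n → F) → F) : Prop where
  hab : CfsgLib.Symp.form a b = 1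
  memA : ∀ w ∈ perp2 a b, sg a w (φ w) ∈ L
  memB : ∀ w ∈ perp2 a b, sg b w (φ w) ∈ L
  add : ∀ u ∈ perp2 a b, ∀ v ∈ perp2 a b, φ (u + v) = φ u + φ v + CfsgLib.Symp.form u v
  smul : ∀ μ : F, ∀ w ∈ perp2 a b, φ (μ • w) = μ ^ 2 * φ w

end CfsgLib.TvFree
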