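import Cfsg.Agent.TvFree.NoTv

/-!
# The quadratic form of a homogeneous pair and the group generated by its elements
-/

set_option autoImplicit false
set_option linter.unusedSectionVars false

namespace CfsgLib.TvFree

open Matrix Cfsg CfsgLib.Geo CfsgLib.Geo.SpTv
open CfsgLib.Symp (form form_add_left form_add_right form_smul_left form_smul_right form_self
  form_zero_left form_zero_right)

variable {n : ℕ} {F : Type*} [Field F] [CharP F 2]

local notation "E" => Fin n ⊕ Fin n → F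
local notation "G" => GL (Fin n ⊕ Fin n) F
local notation "fm" => CfsgLib.Symp.form (l := Fin n) (R := F)

variable {L : Subgroup (GL (Fin n ⊕ Fin n) F)} {a b : Fin n ⊕ Fin n → F}
  {φ : (Fin n ⊕ Fin n → F) → F}

theorem four_zero : (4 : F) = 0 := by linear_combination (2 : F) * (two_zero : (2 : F) = 0)

theorem three_eq : (3 : F) = 1 := by linear_combination (two_zero : (2 : F) = 0)

theorem Pair.hba (P : Pair L a b φ) : fm b a = 1 := (fm_comm b a).trans P.hab

theorem Pair.swap (P : Pair L a b φ) : Pair L b a φ :=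
  ⟨P.hba, fun w hw => P.memB w (perp2_swap hw), fun w hw => P.memA w (perp2_swap hw),
    fun u hu v hv => P.add u (perp2_swap hu) v (perp2_swap hv), fun μ w hw => P.smul μ w (perp2_swap hw)⟩

theorem Pair.zero (P : Pair L a b φ) : φ 0 = 0 := by
  simpa using P.smul 0 0 (Submodule.zero_mem _)

theorem Pair.surj [Finite F] (P : Pair L a b φ) (hn : 2 ≤ n) (l : F) : ∃ w ∈ perp2 a b, φ w = l := by
  obtain ⟨e, he, h', hh, heh⟩ := exists_pair hn P.hab
  have hm : ∀ x y : F, x • e + y • h' ∈ perp2 a b := fun x y =>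
    Submodule.add_mem _ (Submodule.smul_mem _ _ he) (Submodule.smul_mem _ _ hh)
  obtain ⟨x, y, hxy⟩ := surj_line heh (fun x y x' y' => P.add _ (hm x y) _ (hm x' y')) l
  exact ⟨_, hm x y, hxy⟩

/-- The value of the form of the pair. -/
def qv (a b : Fin n ⊕ Fin n → F) (φ : (Fin n ⊕ Fin n → F) → F) (u : Fin n ⊕ Fin n → F) : F :=
  CfsgLib.Symp.form u a * CfsgLib.Symp.form u b + φ (pj a b u)

theorem Pair.qv_add (P : Pair L a b φ) (u v : E) :
    qv a b φ (u + v) = qv a b φ u + qv a b φ v + fm u v := by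
  have hd : fm u v = fm (pj a b u) (pj a b v) + fm u a * fm v b + fm u b * fm v a := by
    simp only [pj, form_add_left, form_add_right, form_smul_left, form_smul_right, form_self, P.hab, P.hba,
      fm_comm a v, fm_comm b v]
    ring_nf
    simp [two_zero, show (4 : F) = 0 by linear_combination (2 : F) * (two_zero : (2 : F) = 0)]
  simp only [qv, pj_add, form_add_left, P.add _ (pj_mem P.hab u) _ (pj_mem P.hab v)]
  rw [hd]
  ring

theorem Pair.qv_smul (P : Pair L a b φ) (c : F) (u : E) : qv a b φ (c • u) = c * c * qv a b φ u := by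
  simp only [qv, pj_smul, form_smul_left, P.smul c _ (pj_mem P.hab u)]
  ring

/-- The quadratic form of a pair. -/
def Pair.qf (P : Pair L a b φ) : QuadraticForm F (Fin n ⊕ Fin n → F) :=
  QuadraticMap.ofPolar (qv a b φ) (fun c u => by rw [P.qv_smul, smul_eq_mul])
    (fun x x' y => by simp only [QuadraticMap.polar, P.qv_add, form_add_left]; ring)
    (fun c x y => by simp only [QuadraticMap.polar, P.qv_add, form_smul_left, smul_eq_mul]; ring)

theorem Pair.qf_apply (P : Pair L a b φ) (u : E) : P.qf u = qv a b φ u := rfl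

theorem Pair.polar_qf (P : Pair L a b φ) (u v : E) : QuadraticMap.polar P.qf u v = fm u v := by
  simp only [QuadraticMap.polar, P.qf_apply, P.qv_add]
  ring

theorem Pair.qf_add (P : Pair L a b φ) (u v : E) : P.qf (u + v) = P.qf u + P.qf v + fm u v :=
  P.qv_add u v

theorem Pair.qf_smul (P : Pair L a b φ) (c : F) (u : E) : P.qf (c • u) = c ^ 2 * P.qf u := by
  rw [P.qf_apply, P.qv_smul, sq]; rfl

theorem Pair.qf_of_mem (P : Pair L a b φ) {w : E} (hw : w ∈ perp2 a b) : P.qf w = φ w := by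
  rw [P.qf_apply, qv, pj_of_mem hw, hw.1, zero_mul, zero_add]

theorem Pair.qf_a (P : Pair L a b φ) : P.qf a = 0 := by
  have : pj a b a = 0 := by simp [pj, form_self, P.hab, add_self]
  rw [P.qf_apply, qv, this, P.zero, form_self, zero_mul, zero_add]

theorem Pair.qf_b (P : Pair L a b φ) : P.qf b = 0 := by
  have : pj a b b = 0 := by simp [pj, form_self, P.hba, add_self]
  rw [P.qf_apply, qv, this, P.zero, form_self, mul_zero, zero_add]

theorem Pair.qf_ba (P : Pair L a b φ) (ε : F) : P.qf (b + ε • a) = ε := by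
  rw [P.qf_add, P.qf_b, P.qf_smul, P.qf_a, form_smul_right, P.hba, mul_zero, mul_one, zero_add, zero_add]

/-- The isometry group of the form. -/
abbrev Pair.iso (P : Pair L a b φ) : Subgroup (GL (Fin n ⊕ Fin n) F) := Cfsg.isometryGroup F ⇑P.qf

theorem mem_iso {Q : QuadraticForm F E} {g : G} :
    g ∈ Cfsg.isometryGroup F ⇑Q ↔ ∀ u, Q (act g u) = Q u :=
  ⟨fun h u => h u 0, fun h u _ => h u⟩

theorem sg_mem_iso {Q : QuadraticForm F E} (hQ : ∀ u v, Q (u + v) = Q u + Q v + fm u v) {p w : E}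
    (hp : Q p = 0) (hw : fm w p = 0) {c : F} (hc : Q w = c) : sg p w c ∈ Cfsg.isometryGroup F ⇑Q := by
  refine mem_iso.2 fun u => ?_
  rw [act_sg hw]
  simp only [hQ, QuadraticMap.map_smul, smul_eq_mul, hp, hc, form_add_left, form_add_right, form_smul_left,
    form_smul_right, form_self, hw, fm_comm p w]
  ring_nf
  simp [two_zero]

/-- The group generated by the elements of a pair. -/
def Pair.gen (_P : Pair L a b φ) : Subgroup (GL (Fin n ⊕ Fin n) F) :=
  Subgroup.closure {g | ∃ w ∈ perp2 a b, g = sg a w (φ w) ∨ g = sg b w (φ w)}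

theorem Pair.memA_gen (P : Pair L a b φ) {w : E} (hw : w ∈ perp2 a b) : sg a w (φ w) ∈ P.gen :=
  Subgroup.subset_closure ⟨w, hw, Or.inl rfl⟩

theorem Pair.memB_gen (P : Pair L a b φ) {w : E} (hw : w ∈ perp2 a b) : sg b w (φ w) ∈ P.gen :=
  Subgroup.subset_closure ⟨w, hw, Or.inr rfl⟩

theorem Pair.gen_le (P : Pair L a b φ) : P.gen ≤ L := by
  refine (Subgroup.closure_le _).2 ?_
  rintro g ⟨w, hw, rfl | rfl⟩
  · exact P.memA w hw
  · exact P.memB w hw

theorem Pair.gen_le_iso (P : Pair L a b φ) : P.gen ≤ P.iso := by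
  refine (Subgroup.closure_le _).2 ?_
  rintro g ⟨w, hw, rfl | rfl⟩
  · exact sg_mem_iso P.qf_add P.qf_a hw.1 (P.qf_of_mem hw)
  · exact sg_mem_iso P.qf_add P.qf_b hw.2 (P.qf_of_mem hw)

theorem Pair.gen_le_sp (P : Pair L a b φ) : P.gen ≤ spGL n F := by
  refine (Subgroup.closure_le _).2 ?_
  rintro g ⟨w, hw, rfl | rfl⟩ <;> exact sg_mem _ _ _

/-- The element exchanging the two lines of the pair. -/
theorem Pair.exists_flip (P : Pair L a b φ) {v : E} (hv : v ∈ perp2 a b) (hk : φ v ≠ 0) :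
    ∃ h ∈ P.gen, act h a = (φ v)⁻¹ • b ∧ act h b = φ v • a := by
  set k := φ v
  have hu := Submodule.smul_mem (perp2 a b) k⁻¹ hv
  have hku : φ (k⁻¹ • v) = k⁻¹ := by
    rw [P.smul _ _ hv, sq, mul_assoc, inv_mul_cancel₀ hk, mul_one]
  refine ⟨_, P.gen.mul_mem (P.gen.mul_mem (P.memA_gen hv) (P.memB_gen hu)) (P.memA_gen hv), ?_, ?_⟩
  · rw [hku, act_mul, act_mul, act_sg hv.1, act_sg hu.2, act_sg hv.1]
    simp only [form_add_left, form_smul_left, form_smul_right, form_self, P.hab, P.hba, fm_comm a v, fm_comm b v,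
      hv.1, hv.2, mul_zero, zero_mul, add_zero, zero_add]
    match_scalars <;> field_simp <;> ring_nf <;> (try simp [two_zero, four_zero, three_eq, k, CharTwo.add_self_eq_zero])
  · rw [hku, act_mul, act_mul, act_sg hv.1, act_sg hu.2, act_sg hv.1]
    simp only [form_add_left, form_smul_left, form_smul_right, form_self, P.hab, P.hba, fm_comm a v, fm_comm b v,
      hv.1, hv.2, mul_zero, zero_mul, add_zero, zero_add]
    match_scalars <;> field_simp <;> ring_nf <;> (try simp [two_zero, four_zero, three_eq, k, CharTwo.add_self_eq_zero])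

theorem Pair.exists_torus [Finite F] (P : Pair L a b φ) (hn : 2 ≤ n) {ν : F} (hν : ν ≠ 0) :
    ∃ g ∈ P.gen, act g a = ν • a ∧ act g b = ν⁻¹ • b := by
  obtain ⟨v, hv, hk⟩ := P.surj hn ν
  obtain ⟨v', hv', hk'⟩ := P.surj hn 1
  obtain ⟨h, hh, ha, hb⟩ := P.exists_flip hv (by rwa [hk])
  obtain ⟨h', hh', ha', hb'⟩ := P.exists_flip hv' (by rw [hk']; exact one_ne_zero)
  rw [hk', inv_one, one_smul] at ha'
  rw [hk', one_smul] at hb'
  exact ⟨h * h', P.gen.mul_mem hh hh', by rw [act_mul, ha', hb, hk], by rw [act_mul, hb', ha, hk]⟩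

theorem Pair.moveA [Finite F] (P : Pair L a b φ) {x : E} (hs : fm x a ≠ 0) :
    ∃ g ∈ P.gen, x = act g (fm x a • b + (P.qf x / fm x a) • a) := by
  set s := fm x a with hsd
  set w := s⁻¹ • pj a b x with hwd
  have hw : w ∈ perp2 a b := Submodule.smul_mem _ _ (pj_mem P.hab x)
  refine ⟨_, P.memA_gen hw, ?_⟩
  conv_lhs => rw [pj_decomp (a := a) (b := b) x, ← hsd]
  rw [act_sg hw.1, show φ w = s⁻¹ ^ 2 * φ (pj a b x) from P.smul _ _ (pj_mem P.hab x),
    P.qf_apply, qv, ← hsd]
  simp only [form_add_left, form_smul_left, form_self, P.hba, fm_comm a w, fm_comm b w, hw.1, hw.2]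
  simp only [hwd]
  match_scalars <;> field_simp <;> ring_nf <;> (try simp [two_zero])

theorem Pair.exists_off [Finite F] (P : Pair L a b φ) {x : E} (hx : fm x a = 0)
    (h : pj a b x ≠ 0 ∨ P.qf x ≠ 0) :
    ∃ g ∈ P.gen, fm (act g x) a ≠ 0 := by
  set w := pj a b x with hwd
  have hw : w ∈ perp2 a b := pj_mem P.hab x
  have hq : P.qf x = φ w := by rw [P.qf_apply, qv, hx, zero_mul, zero_add]
  have hw0 : w ≠ 0 := h.elim id fun hne h0 => hne (by rw [hq, h0, P.zero])
  set t := fm x b with htd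
  have key : ∀ u ∈ perp2 a b, fm (act (sg b u (φ u)) x) a = t * φ u + fm w u := fun u hu => by
    rw [act_sg hu.2, hwd]
    simp only [pj, form_add_left, form_smul_left, P.hba, hx, hu.1, fm_comm a u, zero_smul, add_zero, mul_one,
      ← htd]
    ring
  obtain ⟨v, hv, hwv⟩ := exists_partner P.hab hw hw0
  obtain ⟨u, hu, hne⟩ : ∃ u ∈ perp2 a b, t * φ u + fm w u ≠ 0 := by
    by_cases h1 : t * φ v + 1 = 0
    · have ht : t ≠ 0 := fun h0 => by rw [h0, zero_mul, zero_add] at h1; exact one_ne_zero h1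
      by_cases hφw : φ w = 0
      · refine ⟨v + w, Submodule.add_mem _ hv hw, ?_⟩
        rw [P.add _ hv _ hw, hφw, form_add_right, hwv, form_self, fm_comm v w, hwv, add_zero, add_zero,
          show t * (φ v + 1) + 1 = (t * φ v + 1) + t by ring, h1, zero_add]
        exact ht
      · exact ⟨w, hw, by rw [form_self, add_zero]; exact mul_ne_zero ht hφw⟩
    · exact ⟨v, hv, by rwa [hwv]⟩
  exact ⟨_, P.memB_gen hu, by rwa [key u hu]⟩

theorem Pair.move_sing [Finite F] (P : Pair L a b φ) (hn : 2 ≤ n) {c : E} (hc : c ≠ 0) (hq : P.qf c = 0) :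
    ∃ g ∈ P.gen, act g a = c := by
  have key : ∀ x : E, fm x a ≠ 0 → P.qf x = 0 → ∃ g ∈ P.gen, act g a = x := fun x hs hx => by
    obtain ⟨g, hg, he⟩ := P.moveA hs
    rw [hx, zero_div, zero_smul, add_zero] at he
    obtain ⟨t, ht, hta, -⟩ := P.exists_torus hn hs
    obtain ⟨v, hv, hk⟩ := P.surj hn 1
    obtain ⟨h, hh, hha, -⟩ := P.exists_flip hv (by rw [hk]; exact one_ne_zero)
    refine ⟨g * h * t, P.gen.mul_mem (P.gen.mul_mem hg hh) ht, ?_⟩
    rw [act_mul, act_mul, hta, act_smul, hha, hk, inv_one, one_smul, ← he]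
  by_cases hs : fm c a = 0
  · by_cases hp : pj a b c = 0
    · have e : c = fm c b • a := by
        conv_lhs => rw [pj_decomp (a := a) (b := b) c, hp, hs, zero_smul, add_zero, zero_add]
      obtain ⟨t, ht, hta, -⟩ := P.exists_torus hn (ν := fm c b) (fun h => hc (by rw [e, h, zero_smul]))
      exact ⟨t, ht, by rw [hta, ← e]⟩
    · obtain ⟨g, hg, hne⟩ := P.exists_off hs (Or.inl hp)
      obtain ⟨k, hk, hka⟩ := key _ hne (by rw [mem_iso.1 (P.gen_le_iso hg), hq])
      exact ⟨g⁻¹ * k, P.gen.mul_mem (P.gen.inv_mem hg) hk, by rw [act_mul, hka, act_inv']⟩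
  · exact key c hs hq

theorem Pair.move_nonsing [Finite F] (P : Pair L a b φ) (hn : 2 ≤ n) {x : E} (hq : P.qf x ≠ 0) :
    ∃ g ∈ P.gen, act g (b + P.qf x • a) = x := by
  have key : ∀ y : E, fm y a ≠ 0 → ∃ g ∈ P.gen, act g (b + P.qf y • a) = y := fun y hs => by
    obtain ⟨g, hg, he⟩ := P.moveA hs
    obtain ⟨t, ht, hta, htb⟩ := P.exists_torus hn (inv_ne_zero hs)
    refine ⟨g * t, P.gen.mul_mem hg ht, ?_⟩
    rw [act_mul, act_add t, act_smul t, hta, htb, inv_inv, smul_smul, ← div_eq_mul_inv, ← he]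
  by_cases hs : fm x a = 0
  · obtain ⟨g, hg, hne⟩ := P.exists_off hs (Or.inr hq)
    obtain ⟨k, hk, hka⟩ := key _ hne
    rw [mem_iso.1 (P.gen_le_iso hg)] at hka
    exact ⟨g⁻¹ * k, P.gen.mul_mem (P.gen.inv_mem hg) hk, by rw [act_mul, hka, act_inv']⟩
  · exact key x hs

/-- A symplectic map that keeps the singular vectors singular is an isometry. -/
theorem Pair.mem_iso_of_sing [Finite F] (P : Pair L a b φ) {g : G} (hg : g ∈ spGL n F)
    (h : ∀ c, P.qf c = 0 → P.qf (act g c) = 0) : g ∈ P.iso := by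
  let S : Submodule F E :=
    { carrier := {u | P.qf (act g u) = P.qf u}
      zero_mem' := by simp [act]
      add_mem' := fun {u v} hu hv => by
        simp only [Set.mem_setOf_eq] at *
        rw [act_add, P.qf_add, P.qf_add, hu, hv, fm_act hg]
      smul_mem' := fun c u hu => by
        simp only [Set.mem_setOf_eq] at *
        rw [act_smul, P.qf_smul, P.qf_smul, hu] }
  have hs : ∀ c, P.qf c = 0 → c ∈ S := fun c hc => show P.qf (act g c) = P.qf c by rw [h c hc, hc]
  refine mem_iso.2 fun u => ?_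
  suffices u ∈ S from this
  rw [pj_decomp (a := a) (b := b) u]
  refine S.add_mem (S.add_mem ?_ (S.smul_mem _ (hs a P.qf_a))) (S.smul_mem _ (hs b P.qf_b))
  have hw := pj_mem P.hab u
  have h1 := hs (act (sg a (pj a b u) (φ (pj a b u))) b)
    (by rw [mem_iso.1 (P.gen_le_iso (P.memA_gen hw)), P.qf_b])
  rw [act_sg_b P.hab hw] at h1
  have := S.sub_mem (S.sub_mem h1 (S.smul_mem (φ (pj a b u)) (hs a P.qf_a))) (hs b P.qf_b)
  rwa [add_sub_cancel_right, add_sub_cancel_left] at this

end CfsgLib.TvFree
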