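import Cfsg.Agent.Geo.SympTv
import Mathlib.Algebra.CharP.Two
import Mathlib.GroupTheory.PGroup

/-!
# The radical of the stabilizer of a vector in the symplectic group in characteristic two
-/

set_option autoImplicit false
set_option linter.unusedSectionVars false

namespace CfsgLib.TvFree

open Matrix Cfsg CfsgLib.Geo CfsgLib.Geo.SpTv
open CfsgLib.Symp (form form_add_left form_add_right form_smul_left form_smul_right form_self
  form_zero_left form_zero_right)

variable {n : ℕ} {F : Type*} [Field F] [CharP F 2]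

local notation "E" => Fin n ⊕ Fin n → F
local notation "G" => GL (Fin n ⊕ Fin n) F
local notation "fm" => CfsgLib.Symp.form (l := Fin n) (R := F)

/-- The action on column vectors. -/
abbrev act (g : GL (Fin n ⊕ Fin n) F) (v : Fin n ⊕ Fin n → F) : Fin n ⊕ Fin n → F :=
  (g : Matrix (Fin n ⊕ Fin n) (Fin n ⊕ Fin n) F) *ᵥ v

theorem act_one (v : E) : act (1 : G) v = v := by simp [act]

theorem act_mul (g h : G) (v : E) : act (g * h) v = act g (act h v) := mul_mulVec g h v

theorem act_inv (g : G) (v : E) : act g (act g⁻¹ v) = v := mulVec_inv_mulVec g v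

theorem act_inv' (g : G) (v : E) : act g⁻¹ (act g v) = v := by
  rw [← act_mul, inv_mul_cancel, act_one]

theorem act_add (g : G) (u v : E) : act g (u + v) = act g u + act g v := Matrix.mulVec_add _ _ _

theorem act_smul (g : G) (c : F) (v : E) : act g (c • v) = c • act g v := Matrix.mulVec_smul _ _ _

theorem fm_act {g : G} (hg : g ∈ spGL n F) (u v : E) : fm (act g u) (act g v) = fm u v :=
  form_mulVec hg u v

theorem fm_comm (u v : E) : fm u v = fm v u := by
  rw [CfsgLib.Symp.form_swap, CharTwo.neg_eq]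

/-- Evaluation of the form on linear combinations. -/
theorem two_zero : (2 : F) = 0 := CharTwo.two_eq_zero

theorem add_self (v : E) : v + v = 0 := funext fun i => CharTwo.add_self_eq_zero (v i)

theorem add_add_cancel (u v : E) : u + v + v = u := by rw [add_assoc, add_self, add_zero]

/-- The element `x ↦ x + f(x,a)(w + c a) + f(x,w) a`. -/
noncomputable def sg (a w : Fin n ⊕ Fin n → F) (c : F) : GL (Fin n ⊕ Fin n) F :=
  stv (a + w) 1 * stv w 1 * stv a (1 + c)

theorem sg_mem (a w : E) (c : F) : sg a w c ∈ spGL n F :=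
  (spGL n F).mul_mem ((spGL n F).mul_mem (stv_mem _ _) (stv_mem _ _)) (stv_mem _ _)

theorem act_sg {a w : E} (h : fm w a = 0) (c : F) (u : E) :
    act (sg a w c) u = u + fm u a • (w + c • a) + fm u w • a := by
  have h' : fm a w = 0 := by rw [fm_comm, h]
  simp only [act, sg, mul_mulVec, stv_mulVec, form_add_left, form_smul_left, form_add_right, form_self, h, h']
  match_scalars <;> ring_nf <;> simp [two_zero]

theorem sg_mul {a w w' : E} (h : fm w a = 0) (h' : fm w' a = 0) (c c' : F) :
    sg a w c * sg a w' c' = sg a (w + w') (c + c' + fm w w') := by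
  have hw : fm (w + w') a = 0 := by rw [form_add_left, h, h', add_zero]
  refine gl_ext_mulVec fun u => ?_
  show act _ u = act _ u
  rw [act_mul, act_sg h, act_sg h', act_sg hw]
  simp only [form_add_left, form_smul_left, form_add_right, form_self, fm_comm a w, h, h', fm_comm w' w]
  match_scalars <;> ring_nf <;> simp [two_zero]

theorem sg_conj {g : G} (hg : g ∈ spGL n F) (a w : E) (c : F) :
    g * sg a w c * g⁻¹ = sg (act g a) (act g w) c := by
  simp only [sg, act, ← Matrix.mulVec_add]
  rw [← stv_conj hg, ← stv_conj hg, ← stv_conj hg]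
  group

theorem sg_smul {a w : E} (h : fm w a = 0) (μ c : F) :
    sg (μ • a) w c = sg a (μ • w) (μ ^ 2 * c) := by
  refine gl_ext_mulVec fun u => ?_
  show act _ u = act _ u
  rw [act_sg (by rw [form_smul_right, h, mul_zero]), act_sg (by rw [form_smul_left, h, mul_zero])]
  simp only [form_smul_right]
  match_scalars <;> ring_nf

theorem sg_add_smul {a w : E} (h : fm w a = 0) (t c : F) : sg a (w + t • a) c = sg a w c := by
  refine gl_ext_mulVec fun u => ?_
  show act _ u = act _ u
  rw [act_sg (by simp [form_add_left, form_smul_left, form_self, h]), act_sg h]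
  simp only [form_add_right, form_smul_right]
  match_scalars <;> ring_nf <;> simp [two_zero]

theorem sg_zero (a : E) (c : F) : sg a 0 c = stv a c := by
  refine gl_ext_mulVec fun u => ?_
  show act _ u = act _ u
  rw [act_sg (form_zero_left a)]
  simp only [act, stv_mulVec, form_zero_right, zero_smul, add_zero, zero_add, smul_smul, mul_comm c]

/-- The difference of two elements with the same direction is a transvection. -/
theorem sg_mul_sg {a w : E} (h : fm w a = 0) (c d : F) : sg a w c * sg a w d = stv a (c + d) := by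
  rw [sg_mul h h, form_self, add_zero, add_self, sg_zero]

theorem sg_inv {a w : E} (h : fm w a = 0) (c : F) : (sg a w c)⁻¹ = sg a w c :=
  inv_eq_of_mul_eq_one_right (by
    rw [sg_mul_sg h, CharTwo.add_self_eq_zero]
    refine gl_ext_mulVec fun u => ?_
    simp [stv_mulVec])

theorem stv_eq_one {v : E} (hv : v ≠ 0) {c : F} (h : stv v c = (1 : G)) : c = 0 := by
  obtain ⟨x, hx⟩ := CfsgLib.Symp.exists_form_eq_one hv
  have e := congrArg (fun g : G => act g x) h
  simp only [act, stv_mulVec, Units.val_one, Matrix.one_mulVec] at e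
  rw [fm_comm, hx, mul_one, add_eq_left] at e
  exact (smul_eq_zero.1 e).resolve_right hv

theorem stv_zero_right (v : E) : stv v (0 : F) = (1 : G) :=
  gl_ext_mulVec fun u => by simp [stv_mulVec]

theorem stv_ne_one {v : E} {c : F} (h : stv v c ≠ (1 : G)) : v ≠ 0 ∧ c ≠ 0 :=
  ⟨fun e => h (by rw [e, stv_zero_left]), fun e => h (by rw [e, stv_zero_right])⟩

theorem rank_stv {v : E} (hv : v ≠ 0) {c : F} (hc : c ≠ 0) :
    (Units.val (stv v c) - 1).rank = 1 := by
  obtain ⟨x, hx⟩ := CfsgLib.Symp.exists_form_eq_one hv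
  have hr : LinearMap.range (Units.val (stv v c) - 1).mulVecLin = F ∙ v := by
    refine le_antisymm ?_ (Submodule.span_le.2 ?_)
    · rintro _ ⟨u, rfl⟩
      rw [mulVecLin_apply, sub_mulVec, stv_mulVec, Matrix.one_mulVec, add_sub_cancel_left]
      exact Submodule.smul_mem _ _ (Submodule.mem_span_singleton_self v)
    · rintro _ rfl
      refine ⟨c⁻¹ • x, ?_⟩
      rw [mulVecLin_apply, sub_mulVec, stv_mulVec, Matrix.one_mulVec, add_sub_cancel_left,
        form_smul_left, fm_comm, hx, mul_one, mul_inv_cancel₀ hc, one_smul]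
  rw [Matrix.rank, hr, finrank_span_singleton hv]

/-- `φ` picks for each direction at `a` an element of `L`, compatibly with multiplication. -/
structure Sec (L : Subgroup (GL (Fin n ⊕ Fin n) F)) (a : Fin n ⊕ Fin n → F)
    (φ : (Fin n ⊕ Fin n → F) → F) : Prop where
  mem : ∀ w, fm w a = 0 → sg a w (φ w) ∈ L
  add : ∀ w w', fm w a = 0 → fm w' a = 0 → φ (w + w') = φ w + φ w' + fm w w'
  cl : ∀ t : F, φ (t • a) = 0

/-- No non-trivial transvections. -/
def NoTv (L : Subgroup (GL (Fin n ⊕ Fin n) F)) : Prop :=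
  ∀ v c, stv v c ∈ L → stv v c = (1 : GL (Fin n ⊕ Fin n) F)

theorem NoTv.eq_zero {L : Subgroup (GL (Fin n ⊕ Fin n) F)} (h : NoTv L) {v : E} (hv : v ≠ 0) {c : F}
    (hc : stv v c ∈ L) : c = 0 :=
  stv_eq_one hv (h v c hc)

variable {L : Subgroup (GL (Fin n ⊕ Fin n) F)} {a : Fin n ⊕ Fin n → F} {φ : (Fin n ⊕ Fin n → F) → F}

theorem Sec.zero (h : Sec L a φ) : φ 0 = 0 := by simpa using h.cl 0

theorem Sec.add_smul_self (h : Sec L a φ) {w : E} (hw : fm w a = 0) (t : F) : φ (w + t • a) = φ w := by
  rw [h.add w _ hw (by rw [form_smul_left, form_self, mul_zero]), h.cl, form_smul_right, hw, mul_zero,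
    add_zero, add_zero]

theorem Sec.unique (h : Sec L a φ) (hL : NoTv L) (ha : a ≠ 0) {w : E} (hw : fm w a = 0) {c : F}
    (hc : sg a w c ∈ L) : φ w = c := by
  have e := hL.eq_zero ha (sg_mul_sg hw (φ w) c ▸ L.mul_mem (h.mem w hw) hc)
  exact CharTwo.add_eq_zero.1 e

theorem Sec.conj (h : Sec L a φ) (hLs : L ≤ spGL n F) {g : G} (hg : g ∈ L) :
    Sec L (act g a) fun w => φ (act g⁻¹ w) := by
  have hgs := hLs hg
  have key : ∀ w, fm w (act g a) = 0 → fm (act g⁻¹ w) a = 0 := fun w hw => by
    rw [← fm_act hgs, act_inv]; exact hw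
  refine ⟨fun w hw => ?_, fun w w' hw hw' => ?_, fun t => ?_⟩
  · have := L.mul_mem (L.mul_mem hg (h.mem _ (key w hw))) (L.inv_mem hg)
    rwa [sg_conj hgs, act_inv] at this
  · beta_reduce
    rw [act_add, h.add _ _ (key w hw) (key w' hw'), fm_act ((spGL n F).inv_mem hgs)]
  · beta_reduce
    rw [act_smul, act_inv', h.cl]

theorem Sec.smul (h : Sec L a φ) {μ : F} (hμ : μ ≠ 0) :
    Sec L (μ • a) fun w => φ (μ • w) / μ ^ 2 := by
  have key : ∀ w, fm w (μ • a) = 0 → fm w a = 0 := fun w hw => by
    rw [form_smul_right] at hw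
    exact (mul_eq_zero.1 hw).resolve_left hμ
  have key' : ∀ w, fm w a = 0 → fm (μ • w) a = 0 := fun w hw => by rw [form_smul_left, hw, mul_zero]
  refine ⟨fun w hw => ?_, fun w w' hw hw' => ?_, fun t => ?_⟩
  · rw [sg_smul (key w hw), mul_div_cancel₀ _ (pow_ne_zero 2 hμ)]
    exact h.mem _ (key' w (key w hw))
  · beta_reduce
    rw [smul_add, h.add _ _ (key' w (key w hw)) (key' w' (key w' hw')), form_smul_left, form_smul_right,
      add_div, add_div, ← mul_assoc, ← sq, mul_div_cancel_left₀ _ (pow_ne_zero 2 hμ)]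
  · beta_reduce
    rw [smul_smul, smul_smul, h.cl, zero_div]

/-- The subspace orthogonal to `a` and `b`. -/
def perp2 (a b : Fin n ⊕ Fin n → F) : Submodule F (Fin n ⊕ Fin n → F) where
  carrier := {w | fm w a = 0 ∧ fm w b = 0}
  zero_mem' := ⟨form_zero_left a, form_zero_left b⟩
  add_mem' {u v} hu hv := ⟨by rw [form_add_left, hu.1, hv.1, add_zero], by rw [form_add_left, hu.2, hv.2, add_zero]⟩
  smul_mem' c u hu := ⟨by rw [form_smul_left, hu.1, mul_zero], by rw [form_smul_left, hu.2, mul_zero]⟩

theorem mem_perp2 {a b w : E} : w ∈ perp2 a b ↔ fm w a = 0 ∧ fm w b = 0 := Iff.rfl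

end CfsgLib.TvFree
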