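import Cfsg.Agent.TvFree.Final
import Cfsg.Agent.Quad.HeartCases
import Cfsg.Agent.S5945

/-!
# Subgroups of the four-dimensional symplectic group over two elements: orders
-/

set_option autoImplicit false
set_option linter.unusedSectionVars false

namespace CfsgLib.TvFree

open Matrix Cfsg CfsgLib.Geo CfsgLib.Geo.SpTv
open CfsgLib.Symp (form form_add_left form_add_right form_smul_left form_smul_right form_self
  form_zero_left form_zero_right)

variable {n : ℕ} {F : Type*} [Field F] [CharP F 2]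

local notation "E" => Fin n ⊕ Fin n → F
local notation "G" => GL (Fin n ⊕ Fin n) F
local notation "fm" => CfsgLib.Symp.form (l := Fin n) (R := F)

/-- The subgroup formed by the elements of a section. -/
noncomputable def Sec.grp {L : Subgroup (GL (Fin n ⊕ Fin n) F)} {a b : Fin n ⊕ Fin n → F}
    {φ : (Fin n ⊕ Fin n → F) → F} (h : Sec L a φ) (_hab : CfsgLib.Symp.form a b = 1) :
    Subgroup (GL (Fin n ⊕ Fin n) F) where
  carrier := {g | ∃ w ∈ perp2 a b, g = sg a w (φ w)}
  one_mem' := ⟨0, Submodule.zero_mem _, by rw [h.zero, sg_zero, stv_zero_right]⟩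
  mul_mem' := by
    rintro x y ⟨u, hu, rfl⟩ ⟨v, hv, rfl⟩
    exact ⟨u + v, Submodule.add_mem _ hu hv, by rw [sg_mul hu.1 hv.1, h.add u v hu.1 hv.1]⟩
  inv_mem' := by
    rintro x ⟨u, hu, rfl⟩
    exact ⟨u, hu, sg_inv hu.1 _⟩

theorem Sec.act_of_grp {L : Subgroup G} {a b : E} {φ : E → F} (h : Sec L a φ) (hab : fm a b = 1) {g : G}
    (hg : g ∈ h.grp hab) : g ∈ L ∧ act g a = a := by
  obtain ⟨w, hw, rfl⟩ := hg
  refine ⟨h.mem w hw.1, ?_⟩
  rw [act_sg hw.1, form_self, fm_comm a w, hw.1, zero_smul, zero_smul, add_zero, add_zero]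

theorem Sec.card_grp [Finite F] {L : Subgroup G} {a b : E} {φ : E → F} (h : Sec L a φ) (hab : fm a b = 1) :
    Nat.card (h.grp hab) = Nat.card F ^ (2 * n - 2) := by
  rw [← card_perp2 hab]
  refine Nat.card_congr (Equiv.ofBijective (fun w : perp2 a b => (⟨_, w.1, w.2, rfl⟩ : h.grp hab))
    ⟨fun u v e => Subtype.ext (sg_dir_unique hab u.2 v.2 (congrArg Subtype.val e)).1, ?_⟩).symm
  rintro ⟨g, w, hw, rfl⟩
  exact ⟨⟨w, hw⟩, rfl⟩

/-- The stabilizer of a vector in `L`. -/
noncomputable def stabOf (L : Subgroup (GL (Fin n ⊕ Fin n) F)) (a : Fin n ⊕ Fin n → F) :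
    Subgroup (GL (Fin n ⊕ Fin n) F) where
  carrier := {g | g ∈ L ∧ act g a = a}
  one_mem' := ⟨L.one_mem, act_one a⟩
  mul_mem' {x y} hx hy := ⟨L.mul_mem hx.1 hy.1, by rw [act_mul, hy.2, hx.2]⟩
  inv_mem' {x} hx := ⟨L.inv_mem hx.1, by conv_lhs => rw [← hx.2, act_inv']⟩

theorem card_eq_orbit_mul_stab [Finite F] (L : Subgroup G) (a : E) :
    Nat.card L = Nat.card {x : E // ∃ g ∈ L, act g a = x} * Nat.card (stabOf L a) := by
  have : Finite L := Finite.of_injective (fun g : L => ((g : G) : Matrix (Fin n ⊕ Fin n) (Fin n ⊕ Fin n) F))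
    (fun g h e => Subtype.ext (Units.ext e))
  let act' : MulAction L E :=
    { smul := fun g x => act (g : G) x
      one_smul := fun x => act_one x
      mul_smul := fun g h x => act_mul _ _ x }
  let _ := act'
  have h1 := Subgroup.card_mul_index (MulAction.stabilizer L a)
  rw [MulAction.index_stabilizer] at h1
  have h2 : (MulAction.orbit L a).ncard = Nat.card {x : E // ∃ g ∈ L, act g a = x} := by
    rw [← Nat.card_coe_set_eq]
    refine Nat.card_congr (Equiv.subtypeEquivRight fun x => ?_)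
    exact ⟨fun ⟨g, hg⟩ => ⟨g.1, g.2, hg⟩, fun ⟨g, hg, e⟩ => ⟨⟨g, hg⟩, e⟩⟩
  have h3 : Nat.card (MulAction.stabilizer L a) = Nat.card (stabOf L a) :=
    Nat.card_congr
      { toFun := fun g => ⟨g.1.1, g.1.2, g.2⟩
        invFun := fun g => ⟨⟨g.1, g.2.1⟩, g.2.2⟩
        left_inv := fun g => rfl
        right_inv := fun g => rfl }
  rw [← h1, h2, h3, mul_comm]

variable [Fintype F]

theorem nonempty_spGL_six (hn2 : n = 2) (hq : Fintype.card F = 2) :
    Nonempty (spGL n F ≃* Equiv.Perm (Fin 6)) := by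
  subst hn2
  obtain ⟨e⟩ := CfsgLib.Quad.Heart.nonempty_sp_four hq
  refine ⟨(MulEquiv.ofBijective ((toGLHom (m := 2) (F := F)).codRestrict (spGL 2 F) toGLHom_mem) ⟨?_, ?_⟩).symm.trans e⟩
  · intro x y h
    exact Subtype.ext (congrArg (fun g : GL (Fin 2 ⊕ Fin 2) F => (g : Matrix (Fin 2 ⊕ Fin 2) (Fin 2 ⊕ Fin 2) F))
      (congrArg Subtype.val h))
  · intro g
    exact ⟨⟨(g.1 : Matrix _ _ F), CfsgLib.Symp.mem_iff_form.2 (mem_spGL.1 g.2)⟩, Subtype.ext (Units.ext rfl)⟩

/-- A transvection-free subgroup of order divisible by `60`, other than `60`, is `A₆` or `S₅`. -/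
theorem classify (hn2 : n = 2) (hq : Fintype.card F = 2) {L : Subgroup G} (hLs : L ≤ spGL n F) (hL : NoTv L)
    {a : E} (ha : a ≠ 0) (h60 : 60 ∣ Nat.card L) (hne : Nat.card L ≠ 60) :
    Nonempty (L ≃* alternatingGroup (Fin 6)) ∨ Nonempty (L ≃* Equiv.Perm (Fin 5)) := by
  obtain ⟨Φ⟩ := nonempty_spGL_six hn2 hq
  set K := (L.subgroupOf (spGL n F)).map Φ.toMonoidHom with hK
  let eK : L ≃* K := (Subgroup.subgroupOfEquivOfLe hLs).symm.trans
    ((L.subgroupOf (spGL n F)).equivMapOfInjective _ Φ.injective)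
  have hc := Subgroup.card_mul_index K
  rw [← Nat.card_congr eK.toEquiv, Nat.card_perm, Nat.card_fin, show Nat.factorial 6 = 720 by rfl] at hc
  have htop : K ≠ ⊤ := fun h => by
    have hstv : stv a (1 : F) ∈ L := by
      have : Φ ⟨stv a (1 : F), stv_mem _ _⟩ ∈ K := h ▸ Subgroup.mem_top _
      obtain ⟨x, hx, hxe⟩ := this
      rwa [Φ.injective hxe] at hx
    exact one_ne_zero (stv_eq_one ha (hL _ _ hstv))
  by_cases hA : K = alternatingGroup (Fin 6)
  · exact Or.inl ⟨eK.trans (MulEquiv.subgroupCongr hA)⟩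
  have h6 := CfsgLib.SymIndex.le_index (α := Fin 6) (by simp) htop hA
  rw [Fintype.card_fin] at h6
  obtain ⟨k, hk⟩ := h60
  have hidx : K.index = 6 := by
    rw [hk] at hc hne
    have hk1 : k ≠ 1 := by omega
    have hk0 : k ≠ 0 := fun h => by simp [h] at hc
    have h12 : k * K.index = 12 := by
      have : 60 * (k * K.index) = 60 * 12 := by rw [← mul_assoc, hc]
      omega
    have hk2 : k = 2 := by
      have := Nat.mul_le_mul (le_refl k) h6
      omega
    rw [hk2] at h12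
    omega
  exact Or.inr ⟨eK.trans ((Cfsg.Agent.S5945.result).2.1 K hidx).some⟩

variable {L : Subgroup (GL (Fin n ⊕ Fin n) F)} {a b : Fin n ⊕ Fin n → F}
  {φ : (Fin n ⊕ Fin n → F) → F}

/-- A transitive group has order `15 · |stabilizer|`. -/
theorem card_of_transitive (hn2 : n = 2) (hq : Fintype.card F = 2) (ha : a ≠ 0)
    (htr : ∀ x : E, x ≠ 0 → ∃ g ∈ L, act g a = x) : Nat.card L = 15 * Nat.card (stabOf L a) := by
  rw [card_eq_orbit_mul_stab L a]
  congr 1
  have h1 : Nat.card E = 16 := by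
    rw [Nat.card_fun, Nat.card_eq_fintype_card (α := F), hq, hn2, Nat.card_sum, Nat.card_fin]
    rfl
  have h2 : Nat.card {x : E // ∃ g ∈ L, act g a = x} = Nat.card {x : E // x ≠ 0} := by
    refine Nat.card_congr (Equiv.subtypeEquivRight fun x => ⟨?_, htr x⟩)
    rintro ⟨g, -, rfl⟩ h
    exact ha (by rw [← act_inv' g a, h]; simp [act])
  rw [h2]
  classical
  haveI := Fintype.ofFinite E
  rw [Nat.card_eq_fintype_card] at h1 ⊢
  rw [Fintype.card_subtype_compl, Fintype.card_subtype_eq, h1]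

theorem four_dvd_stab (hn2 : n = 2) (hq : Fintype.card F = 2) (h : Sec L a φ) (hab : fm a b = 1) :
    4 ∣ Nat.card (stabOf L a) := by
  have hc := h.card_grp hab
  rw [Nat.card_eq_fintype_card (α := F), hq, show 2 * n - 2 = 2 by omega] at hc
  norm_num at hc
  rw [← hc]
  exact Subgroup.card_dvd_of_le fun g hg => h.act_of_grp hab hg

theorem sixty_dvd (hn2 : n = 2) (hq : Fintype.card F = 2) (h : Sec L a φ) (hab : fm a b = 1)
    (htr : ∀ x : E, x ≠ 0 → ∃ g ∈ L, act g a = x) : 60 ∣ Nat.card L := by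
  rw [card_of_transitive hn2 hq (fun h => by simp [h, form_zero_left] at hab) htr]
  exact Nat.mul_dvd_mul_left 15 (four_dvd_stab hn2 hq h hab)

/-- In a transitive group of order `60` only the section fixes its centre. -/
theorem stab_eq_grp (hn2 : n = 2) (hq : Fintype.card F = 2) (h : Sec L a φ) (hab : fm a b = 1)
    (htr : ∀ x : E, x ≠ 0 → ∃ g ∈ L, act g a = x) (h60 : Nat.card L = 60) {g : G} (hg : g ∈ L)
    (hga : act g a = a) : g ∈ h.grp hab := by
  have h1 := card_of_transitive hn2 hq (fun h => by simp [h, form_zero_left] at hab) htr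
  have hle : h.grp hab ≤ stabOf L a := fun x hx => h.act_of_grp hab hx
  have hc := h.card_grp hab
  rw [Nat.card_eq_fintype_card (α := F), hq, show 2 * n - 2 = 2 by omega] at hc
  norm_num at hc
  have : h.grp hab = stabOf L a := Subgroup.eq_of_le_of_card_ge hle (by omega)
  rw [this]
  exact ⟨hg, hga⟩

end CfsgLib.TvFree
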