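import Cfsg.Agent.TvFree.Small

/-!
# Subgroups of the four-dimensional symplectic group over two elements: the cases
-/

set_option autoImplicit false
set_option linter.unusedSectionVars false

namespace CfsgLib.TvFree

open Matrix Cfsg CfsgLib.Geo CfsgLib.Geo.SpTv CfsgLib.Quad
open CfsgLib.Symp (form form_add_left form_add_right form_smul_left form_smul_right form_self
  form_zero_left form_zero_right)

variable {n : ℕ} {F : Type*} [Field F] [CharP F 2] [Fintype F]

local notation "E" => Fin n ⊕ Fin n → F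
local notation "G" => GL (Fin n ⊕ Fin n) F
local notation "fm" => CfsgLib.Symp.form (l := Fin n) (R := F)

theorem two_elems (hq : Fintype.card F = 2) (t : F) : t = 0 ∨ t = 1 := by
  classical
  by_contra h
  push Not at h
  have h3 : ({0, 1, t} : Finset F).card = 3 :=
    Finset.card_eq_three.2 ⟨0, 1, t, zero_ne_one, h.1.symm, h.2.symm, rfl⟩
  have := Finset.card_le_univ ({0, 1, t} : Finset F)
  omega

variable {L : Subgroup (GL (Fin n ⊕ Fin n) F)} {a b : Fin n ⊕ Fin n → F}
  {φ ψ : (Fin n ⊕ Fin n → F) → F}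

theorem coord_two (hn2 : n = 2) (hab : fm a b = 1) {v y : E} (hv : v ∈ perp2 a b) (hy : y ∈ perp2 a b)
    (hvy : fm v y = 1) {x : E} (hx : x ∈ perp2 a b) : x = fm x y • v + fm x v • y := by
  let T : perp2 a b → F × F := fun x => (fm x.1 y, fm x.1 v)
  have hs : Function.Surjective T := fun p =>
    ⟨⟨p.1 • v + p.2 • y, Submodule.add_mem _ (Submodule.smul_mem _ _ hv) (Submodule.smul_mem _ _ hy)⟩, by
      simp [T, form_add_left, form_smul_left, form_self, hvy, fm_comm y v]⟩
  have hb := hs.bijective_of_nat_card_le (by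
    rw [card_perp2 hab, Nat.card_prod, show 2 * n - 2 = 2 by omega, sq])
  refine congrArg Subtype.val (hb.1 (a₁ := ⟨x, hx⟩) (a₂ := ⟨_, Submodule.add_mem _
    (Submodule.smul_mem _ (fm x y) hv) (Submodule.smul_mem _ (fm x v) hy)⟩) ?_)
  simp [T, form_add_left, form_smul_left, form_self, hvy, fm_comm y v]

/-- A distinguished hyperbolic pair of two sections with different values. -/
structure Mixed (L : Subgroup (GL (Fin n ⊕ Fin n) F)) (a b : Fin n ⊕ Fin n → F)
    (φ ψ : (Fin n ⊕ Fin n → F) → F) (v₁ v₂ : Fin n ⊕ Fin n → F) : Prop where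
  sa : Sec L a φ
  sb : Sec L b ψ
  hab : CfsgLib.Symp.form a b = 1
  m1 : v₁ ∈ perp2 a b
  m2 : v₂ ∈ perp2 a b
  hv : CfsgLib.Symp.form v₁ v₂ = 1
  f1 : φ v₁ = 1
  f2 : φ v₂ = 0
  g1 : ψ v₁ = 0
  g2 : ψ v₂ = 1

theorem agree_or_mixed (hn2 : n = 2) (hLs : L ≤ spGL n F) (hL : NoTv L) (hF : ∀ t : F, t = 0 ∨ t = 1)
    (ha : Sec L a φ) (hb : Sec L b ψ) (hab : fm a b = 1) :
    (∀ w ∈ perp2 a b, ψ w = φ w) ∨ ∃ v₁ v₂, Mixed L a b φ ψ v₁ v₂ := by
  have key : ∀ {a b : E} {φ ψ : E → F}, Sec L a φ → Sec L b ψ → fm a b = 1 →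
      ∀ z ∈ perp2 a b, φ z = 0 → ψ z = 1 → ∃ v ∈ perp2 a b, fm z v = 1 ∧ φ v = 1 ∧ ψ v = 0 := by
    intro a b φ ψ ha hb hab z hz h0 h1
    have hz0 : z ≠ 0 := fun h => by simp [h, hb.zero] at h1
    obtain ⟨w, hw, hzw⟩ := exists_partner hab hz hz0
    have hnot : ∀ w ∈ perp2 a b, fm z w = 1 → ψ w = 0 := fun w hw hzw =>
      (hF _).resolve_right fun h => by
        rw [two_zero_core hLs hL hF ha hb hab hz h0 hw hzw h] at h1
        exact zero_ne_one h1
    rcases hF (φ w) with h | h
    · have hwz := Submodule.add_mem _ hw hz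
      refine ⟨w + z, hwz, by rw [form_add_right, hzw, form_self, add_zero], ?_,
        hnot _ hwz (by rw [form_add_right, hzw, form_self, add_zero])⟩
      rw [ha.add _ _ hw.1 hz.1, h, h0, fm_comm w z, hzw, zero_add, zero_add]
    · exact ⟨w, hw, hzw, h, hnot w hw hzw⟩
  by_cases h : ∀ w ∈ perp2 a b, ψ w = φ w
  · exact Or.inl h
  right
  push Not at h
  obtain ⟨z, hz, hne⟩ := h
  rcases hF (φ z) with h0 | h0
  · have h1 : ψ z = 1 := (hF _).resolve_left fun h => hne (h.trans h0.symm)
    obtain ⟨v, hv, hzv, hv1, hv0⟩ := key ha hb hab z hz h0 h1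
    exact ⟨v, z, ha, hb, hab, hv, hz, (fm_comm v z).trans hzv, hv1, h0, hv0, h1⟩
  · have h1 : ψ z = 0 := (hF _).resolve_right fun h => hne (h.trans h0.symm)
    obtain ⟨v, hv, hzv, hv1, hv0⟩ := key hb ha ((fm_comm b a).trans hab) z (perp2_swap hz) h1 h0
    exact ⟨z, v, ha, hb, hab, hz, perp2_swap hv, hzv, h0, hv0, h1, hv1⟩

theorem three_nsmul' (v : E) : (3 : ℕ) • v = v := by rw [succ_nsmul, two_nsmul, add_self, zero_add]

theorem four_nsmul' (v : E) : (4 : ℕ) • v = 0 := by rw [succ_nsmul, three_nsmul', add_self]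

theorem three_zsmul' (v : E) : (3 : ℤ) • v = v := by
  rw [show (3 : ℤ) = ((3 : ℕ) : ℤ) from rfl, natCast_zsmul, three_nsmul']

theorem four_zsmul' (v : E) : (4 : ℤ) • v = 0 := by
  rw [show (4 : ℤ) = ((4 : ℕ) : ℤ) from rfl, natCast_zsmul, four_nsmul']

theorem Mixed.transitive (hn2 : n = 2) (hF : ∀ t : F, t = 0 ∨ t = 1) (hI : ∃ g ∈ L, act g a = b)
    {v₁ v₂ : E} (M : Mixed L a b φ ψ v₁ v₂) (x : E) (hx : x ≠ 0) : ∃ g ∈ L, act g a = x := by
  obtain ⟨ha, hb, hab, m1, m2, hv, f1, f2, g1, g2⟩ := M
  have hba : fm b a = 1 := (fm_comm b a).trans hab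
  have me := Submodule.add_mem _ m1 m2
  have fe : φ (v₁ + v₂) = 0 := by
    rw [ha.add _ _ m1.1 m2.1, f1, f2, hv, add_zero, CharTwo.add_self_eq_zero]
  have ge : ψ (v₁ + v₂) = 0 := by
    rw [hb.add _ _ m1.2 m2.2, g1, g2, hv, zero_add, CharTwo.add_self_eq_zero]
  let R : E → Prop := fun x => ∃ g ∈ L, act g a = x
  have step : ∀ {k : G}, k ∈ L → ∀ {x : E}, R x → R (act k x) := fun {k} hk {x} ⟨g, hg, e⟩ =>
    ⟨k * g, L.mul_mem hk hg, by rw [act_mul, e]⟩
  have sA : ∀ {w : E}, w ∈ perp2 a b → ∀ {x y : E}, R x →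
      x + fm x a • (w + φ w • a) + fm x w • a = y → R y := fun {w} hw {x y} hx e => by
    rw [← e, ← act_sg hw.1]; exact step (ha.mem w hw.1) hx
  have sB : ∀ {w : E}, w ∈ perp2 a b → ∀ {x y : E}, R x →
      x + fm x b • (w + ψ w • b) + fm x w • b = y → R y := fun {w} hw {x y} hx e => by
    rw [← e, ← act_sg hw.2]; exact step (hb.mem w hw.2) hx
  have r1 : R a := ⟨1, L.one_mem, act_one a⟩
  have r2 : R b := hI
  have h21 : fm v₂ v₁ = 1 := (fm_comm v₂ v₁).trans hv
  have c1 : fm a v₁ = 0 := (fm_comm a v₁).trans m1.1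
  have c2 : fm a v₂ = 0 := (fm_comm a v₂).trans m2.1
  have d1 : fm b v₁ = 0 := (fm_comm b v₁).trans m1.2
  have d2 : fm b v₂ = 0 := (fm_comm b v₂).trans m2.2
  have r3 : R (a + v₁) := sB m1 r1 (by simp [hab, c1, g1])
  have r4 : R (a + v₂ + b) := sB m2 r1 (by simp [hab, c2, g2, add_assoc])
  have r5 : R (a + (v₁ + v₂)) := sB me r1 (by simp [hab, form_add_right, c1, c2, ge])
  have r6 : R (b + v₁ + a) := sA m1 r2 (by simp [hba, d1, f1, add_assoc])
  have r7 : R (b + v₂) := sA m2 r2 (by simp [hba, d2, f2])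
  have r8 : R (b + (v₁ + v₂)) := sA me r2 (by simp [hba, form_add_right, d1, d2, fe])
  have r9 : R (a + b) := sB m1 r6 (by
    simp [form_add_left, form_self, hab, m1.2, d1, c1, g1]
    abel_nf <;> simp only [two_nsmul, three_nsmul', four_nsmul', two_zsmul, three_zsmul', four_zsmul', add_self, add_zero, zero_add])
  have r10 : R (b + v₁) := sA m1 r9 (by
    simp [form_add_left, form_self, hba, d1, c1, f1]
    abel_nf <;> simp only [two_nsmul, three_nsmul', four_nsmul', two_zsmul, three_zsmul', four_zsmul', add_self, add_zero, zero_add])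
  have r11 : R (a + v₂) := sB m2 r9 (by
    simp [form_add_left, form_self, hab, d2, c2, g2]
    abel_nf <;> simp only [two_nsmul, three_nsmul', four_nsmul', two_zsmul, three_zsmul', four_zsmul', add_self, add_zero, zero_add])
  have r12 : R (a + b + (v₁ + v₂)) := sA me r9 (by
    simp [form_add_left, form_add_right, form_self, hba, d1, d2, c1, c2, fe])
  have r13 : R v₁ := sA m2 r3 (by
    simp [form_add_left, form_self, m1.1, c2, hv, f2]
    abel_nf <;> simp only [two_nsmul, three_nsmul', four_nsmul', two_zsmul, three_zsmul', four_zsmul', add_self, add_zero, zero_add])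
  have r14 : R v₂ := sA m1 r11 (by
    simp [form_add_left, form_self, m2.1, c1, h21, f1]
    abel_nf <;> simp only [two_nsmul, three_nsmul', four_nsmul', two_zsmul, three_zsmul', four_zsmul', add_self, add_zero, zero_add])
  have r15 : R (v₁ + v₂) := sA m1 r5 (by
    simp [form_add_left, form_self, m1.1, m2.1, c1, h21, f1]
    abel_nf <;> simp only [two_nsmul, three_nsmul', four_nsmul', two_zsmul, three_zsmul', four_zsmul', add_self, add_zero, zero_add])
  have tr : ∀ {x y : E}, R x → x = y → R y := fun h e => e ▸ h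
  have e := pj_decomp (a := a) (b := b) x
  rw [coord_two hn2 hab m1 m2 hv (pj_mem hab x)] at e
  rcases hF (fm (pj a b x) v₂) with h1 | h1 <;> rcases hF (fm (pj a b x) v₁) with h2 | h2 <;>
    rcases hF (fm x b) with h3 | h3 <;> rcases hF (fm x a) with h4 | h4 <;>
    rw [h1, h2, h3, h4] at e <;> simp only [zero_smul, one_smul, add_zero, zero_add] at e <;> subst e <;>
    first
      | exact absurd rfl hx
      | exact tr r1 (by abel1) | exact tr r2 (by abel1) | exact tr r3 (by abel1) | exact tr r4 (by abel1)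
      | exact tr r5 (by abel1) | exact tr r6 (by abel1) | exact tr r7 (by abel1) | exact tr r8 (by abel1)
      | exact tr r9 (by abel1) | exact tr r10 (by abel1) | exact tr r11 (by abel1) | exact tr r12 (by abel1)
      | exact tr r13 (by abel1) | exact tr r14 (by abel1) | exact tr r15 (by abel1)

theorem Mixed.card_ne (hn2 : n = 2) (hq : Fintype.card F = 2) {v₁ v₂ : E} (M : Mixed L a b φ ψ v₁ v₂)
    (htr : ∀ x : E, x ≠ 0 → ∃ g ∈ L, act g a = x) : Nat.card L ≠ 60 := by
  intro h60
  obtain ⟨ha, hb, hab, m1, m2, hv, f1, f2, g1, g2⟩ := M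
  have hba : fm b a = 1 := (fm_comm b a).trans hab
  have htrb : ∀ x : E, x ≠ 0 → ∃ g ∈ L, act g b = x := fun x hx => by
    obtain ⟨g, hg, e⟩ := htr x hx
    obtain ⟨k, hk, ek⟩ := htr b (fun h => by simp [h, form_zero_right] at hab)
    exact ⟨g * k⁻¹, L.mul_mem hg (L.inv_mem hk), by rw [act_mul, ← ek, act_inv', e]⟩
  have me := Submodule.add_mem _ m1 m2
  have fe : φ (v₁ + v₂) = 0 := by
    rw [ha.add _ _ m1.1 m2.1, f1, f2, hv, add_zero, CharTwo.add_self_eq_zero]
  have ge : ψ (v₁ + v₂) = 0 := by
    rw [hb.add _ _ m1.2 m2.2, g1, g2, hv, zero_add, CharTwo.add_self_eq_zero]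
  have h21 : fm v₂ v₁ = 1 := (fm_comm v₂ v₁).trans hv
  have c1 : fm a v₁ = 0 := (fm_comm a v₁).trans m1.1
  have c2 : fm a v₂ = 0 := (fm_comm a v₂).trans m2.1
  have d1 : fm b v₁ = 0 := (fm_comm b v₁).trans m1.2
  have d2 : fm b v₂ = 0 := (fm_comm b v₂).trans m2.2
  set A1 := sg a v₁ (1 : F)
  set B1 := sg b v₁ (0 : F)
  set Ae := sg a (v₁ + v₂) (0 : F)
  set Be := sg b (v₁ + v₂) (0 : F)
  have hA1 : A1 ∈ L := by have := ha.mem v₁ m1.1; rwa [f1] at this
  have hB1 : B1 ∈ L := by have := hb.mem v₁ m1.2; rwa [g1] at this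
  have hAe : Ae ∈ L := by have := ha.mem _ me.1; rwa [fe] at this
  have hBe : Be ∈ L := by have := hb.mem _ me.2; rwa [ge] at this
  set j := A1 * (B1 * (Ae * (Be * (B1 * A1))))
  have hj : j ∈ L := L.mul_mem hA1 (L.mul_mem hB1 (L.mul_mem hAe (L.mul_mem hBe (L.mul_mem hB1 hA1))))
  have e1 : ∀ x, act A1 x = x + fm x a • (v₁ + (1 : F) • a) + fm x v₁ • a := act_sg m1.1 1
  have e2 : ∀ x, act B1 x = x + fm x b • (v₁ + (0 : F) • b) + fm x v₁ • b := act_sg m1.2 0
  have e3 : ∀ x, act Ae x = x + fm x a • (v₁ + v₂ + (0 : F) • a) + fm x (v₁ + v₂) • a := act_sg me.1 0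
  have e4 : ∀ x, act Be x = x + fm x b • (v₁ + v₂ + (0 : F) • b) + fm x (v₁ + v₂) • b := act_sg me.2 0
  have p1 : act A1 b = b + v₁ + a := by rw [e1]; simp [hba, d1, add_assoc]
  have p2 : act B1 (b + v₁ + a) = a + b := by
    rw [e2]; simp [form_add_left, form_self, hab, m1.2, d1, c1]
    abel_nf <;> simp only [two_nsmul, three_nsmul', four_nsmul', two_zsmul, three_zsmul', four_zsmul', add_self, add_zero, zero_add]
  have p3 : act Be (a + b) = a + b + (v₁ + v₂) := by
    rw [e4]; simp [form_add_left, form_add_right, form_self, hab, d1, d2, c1, c2]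
  have p4 : act Ae (a + b + (v₁ + v₂)) = a + b := by
    rw [e3]; simp [form_add_left, form_add_right, form_self, hba, d1, d2, c1, c2, m1.1, m2.1, hv, h21]
    match_scalars <;> ring_nf <;> (try simp [(two_zero : (2 : F) = 0), (three_one : (3 : F) = 1), (four_zero : (4 : F) = 0)])
  have p5 : act B1 (a + b) = b + v₁ + a := by
    rw [← p2, ← act_mul, sg_mul_sg m1.2, CharTwo.add_self_eq_zero, stv_zero_right, act_one]
  have p6 : act A1 (b + v₁ + a) = b := by
    rw [← p1, ← act_mul, sg_mul_sg m1.1, CharTwo.add_self_eq_zero, stv_zero_right, act_one]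
  have hjb : act j b = b := by simp only [j, act_mul, p1, p2, p3, p4, p5, p6]
  have hja : act j a = a + b := by
    simp only [j, act_mul]
    have q1 : act A1 a = a := by rw [e1]; simp [form_self, c1]
    have q2 : act B1 a = a + v₁ := by rw [e2]; simp [hab, c1]
    have q3 : act Be (a + v₁) = a + (v₁ + v₂) + v₁ + b := by
      rw [e4]; simp [form_add_left, form_add_right, form_self, hab, c1, c2, m1.2, hv]
      abel_nf <;> simp only [two_nsmul, three_nsmul', four_nsmul', two_zsmul, three_zsmul', four_zsmul', add_self, add_zero, zero_add]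
    have q4 : act Ae (a + (v₁ + v₂) + v₁ + b) = v₁ + b := by
      rw [e3]; simp [form_add_left, form_add_right, form_self, hba, d1, d2, c1, c2, m1.1, m2.1, hv, h21]
      match_scalars <;> ring_nf <;> (try simp [(two_zero : (2 : F) = 0), (three_one : (3 : F) = 1), (four_zero : (4 : F) = 0)])
    have q5 : act B1 (v₁ + b) = v₁ + b := by
      rw [e2]; simp [form_add_left, form_self, m1.2, d1]
    rw [q1, q2, q3, q4, q5, e1]
    simp [form_add_left, form_self, hba, m1.1, d1]
    abel_nf <;> simp only [two_nsmul, three_nsmul', four_nsmul', two_zsmul, three_zsmul', four_zsmul', add_self, add_zero, zero_add]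
  obtain ⟨w, hw, hjw⟩ := stab_eq_grp hn2 hq hb hba htrb h60 hj hjb
  have e : a + b = a + w + ψ w • b := by rw [← hja, hjw, act_sg_b hba hw]
  have hw0 : w = 0 := by
    have h1 := coord_two hn2 hab m1 m2 hv (x := w) (perp2_swap hw)
    have h2 : fm w v₁ = 0 := by
      have := congrArg (fun x => fm x v₁) e
      simpa [form_add_left, form_smul_left, c1, d1] using this.symm
    have h3 : fm w v₂ = 0 := by
      have := congrArg (fun x => fm x v₂) e
      simpa [form_add_left, form_smul_left, c2, d2] using this.symm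
    rw [h1, h2, h3, zero_smul, zero_smul, add_zero]
  rw [hw0, hb.zero] at e
  have := congrArg (fun x => fm x a) e
  simp [form_add_left, form_zero_left, form_self, hba] at this

/-- The elements of a pair have even rank, in the smallest case. -/
theorem Pair.even_gen_small (P : Pair L a b φ) (hn2 : n = 2) (hF : ∀ t : F, t = 0 ∨ t = 1) :
    ∀ m ∈ P.gen, ∀ h : m ∈ P.iso, Even (Module.finrank F (fixSp (isoGroupEquiv P.qf ⟨m, h⟩))) := by
  set S := ((pairGroup P.qf).comap (isoGroupEquiv P.qf).toMonoidHom).map P.iso.subtype with hS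
  have hSeven : ∀ m ∈ S, ∀ h : m ∈ P.iso, Even (Module.finrank F (fixSp (isoGroupEquiv P.qf ⟨m, h⟩))) := by
    intro m hm h
    obtain ⟨k, hk, rfl⟩ := hm
    exact pairGroup_even P.nondeg hk
  have hnz : ∀ p, P.qf p = 0 → ∀ w, fm w p = 0 → w ∈ perp2 a b → φ w ≠ 0 → sg p w (φ w) ∈ S := by
    intro p hp w hwp hw hk
    have hi := sg_mem_iso P.qf_add hp hwp (P.qf_of_mem hw)
    exact ⟨⟨_, hi⟩, P.sg_mem_pairs p hp w hwp _ hk (P.qf_of_mem hw) hi, rfl⟩
  by_cases hell : ∀ w ∈ perp2 a b, φ w = 0 → w = 0
  · intro m hm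
    refine hSeven m (((Subgroup.closure_le _).2 ?_) hm)
    rintro k ⟨w, hw, rfl | rfl⟩ <;> by_cases hk : φ w = 0
    · rw [hell w hw hk, P.zero, sg_zero, stv_zero_right]; exact S.one_mem
    · exact hnz a P.qf_a w hw.1 hw hk
    · rw [hell w hw hk, P.zero, sg_zero, stv_zero_right]; exact S.one_mem
    · exact hnz b P.qf_b w hw.2 hw hk
  push Not at hell
  obtain ⟨e, he, hφe, he0⟩ := hell
  set A := sg a e (0 : F) with hAd
  have hAg : A ∈ P.gen := by
    have := P.memA_gen he
    rwa [hφe] at this
  have hAA : A * A = 1 := by rw [hAd, sg_mul_sg he.1, add_zero, stv_zero_right]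
  have hnorm : ∀ {g k : G}, g ∈ P.iso → k ∈ S → g * k * g⁻¹ ∈ S := by
    intro g k hg hk
    obtain ⟨k, hk, rfl⟩ := hk
    refine ⟨⟨g, hg⟩ * k * ⟨g, hg⟩⁻¹, ?_, rfl⟩
    have hN : ∀ (u : oGroup P.qf), ∀ x ∈ pairGroup P.qf, u * x * u⁻¹ ∈ pairGroup P.qf := by
      intro u x hx
      induction hx using Subgroup.closure_induction with
      | mem x hx =>
        obtain ⟨p, q, hp, hq, rfl⟩ := hx
        refine Subgroup.subset_closure ⟨u.1 p, u.1 q, by rwa [u.2], by rwa [u.2], ?_⟩
        rw [← refl_conj, ← refl_conj]; group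
      | one => simp
      | mul x y _ _ hx hy =>
        have := Subgroup.mul_mem _ hx hy
        rwa [show u * x * u⁻¹ * (u * y * u⁻¹) = u * (x * y) * u⁻¹ by group] at this
      | inv x _ hx =>
        have := Subgroup.inv_mem _ hx
        rwa [show (u * x * u⁻¹)⁻¹ = u * x⁻¹ * u⁻¹ by group] at this
    show isoGroupEquiv P.qf _ ∈ pairGroup P.qf
    rw [map_mul, map_mul, map_inv]
    exact hN _ _ hk
  let K : Subgroup G :=
    { carrier := {k | k ∈ P.iso ∧ (k ∈ S ∨ k * A ∈ S)}
      one_mem' := ⟨P.iso.one_mem, Or.inl S.one_mem⟩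
      mul_mem' := fun {x y} ⟨hxO, hx⟩ ⟨hyO, hy⟩ => by
        refine ⟨P.iso.mul_mem hxO hyO, ?_⟩
        have hAi : A⁻¹ = A := inv_eq_of_mul_eq_one_right hAA
        have hAO := P.gen_le_iso hAg
        rcases hy with hy | hy
        · rcases hx with hx | hx
          · exact Or.inl (S.mul_mem hx hy)
          · refine Or.inr ?_
            have := S.mul_mem hx (hnorm hAO hy)
            rwa [hAi, show x * A * (A * y * A) = x * (A * A) * y * A by group, hAA, mul_one] at this
        · rcases hx with hx | hx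
          · refine Or.inr ?_
            rw [mul_assoc]; exact S.mul_mem hx hy
          · refine Or.inl ?_
            have := S.mul_mem hx (hnorm hAO hy)
            rwa [hAi, show x * A * (A * (y * A) * A) = x * (A * A) * y * (A * A) by group, hAA, mul_one,
              mul_one] at this
      inv_mem' := fun {x} ⟨hxO, hx⟩ => by
        refine ⟨P.iso.inv_mem hxO, ?_⟩
        rcases hx with hx | hx
        · exact Or.inl (S.inv_mem hx)
        · refine Or.inr ?_
          have hAi : A⁻¹ = A := inv_eq_of_mul_eq_one_right hAA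
          have := hnorm (P.gen_le_iso hAg) (S.inv_mem hx)
          rwa [_root_.mul_inv_rev, hAi, show A * (A * x⁻¹) * A = A * A * x⁻¹ * A by group, hAA,
            one_mul] at this }
  have hgen : P.gen ≤ K := by
    refine (Subgroup.closure_le _).2 ?_
    have hzero : ∀ w ∈ perp2 a b, φ w = 0 → w ≠ 0 → w ≠ e → fm w e = 1 := by
      intro w hw hφw hw0 hwe
      refine (hF _).resolve_left fun h => ?_
      obtain ⟨y, hy, hey⟩ := exists_partner P.hab he he0
      have hc := coord_two hn2 P.hab he hy hey hw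
      rw [h, zero_smul, add_zero] at hc
      rcases hF (fm w y) with h' | h' <;> rw [h'] at hc
      · exact hw0 (by rw [hc, zero_smul])
      · exact hwe (by rw [hc, one_smul])
    rintro k ⟨w, hw, rfl | rfl⟩
    · refine ⟨P.gen_le_iso (P.memA_gen hw), ?_⟩
      by_cases hk : φ w = 0
      · by_cases hw0 : w = 0
        · rw [hw0, P.zero, sg_zero, stv_zero_right]; exact Or.inl S.one_mem
        refine Or.inr ?_
        rw [hk, hAd, sg_mul hw.1 he.1, add_zero, zero_add]
        by_cases hwe : w = e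
        · rw [hwe, add_self, form_self, sg_zero, stv_zero_right]; exact S.one_mem
        · have hm := Submodule.add_mem _ hw he
          have hfe := hzero w hw hk hw0 hwe
          have hv : φ (w + e) = 1 := by rw [P.add _ hw _ he, hk, hφe, hfe, zero_add, zero_add]
          have := hnz a P.qf_a _ hm.1 hm (by rw [hv]; exact one_ne_zero)
          rwa [hv, ← hfe] at this
      · exact Or.inl (hnz a P.qf_a w hw.1 hw hk)
    · refine ⟨P.gen_le_iso (P.memB_gen hw), ?_⟩
      by_cases hk : φ w = 0
      · by_cases hw0 : w = 0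
        · rw [hw0, P.zero, sg_zero, stv_zero_right]; exact Or.inl S.one_mem
        refine Or.inr ?_
        have hBA : sg b e (0 : F) * A ∈ S := by
          have hu : P.qf (b + a) = 1 := by
            have := P.qf_ba (1 : F)
            rwa [one_smul] at this
          have huw : P.qf (b + a + e) = 1 := by
            rw [P.qf_add, hu, P.qf_of_mem he, hφe, form_add_left, fm_comm b e, fm_comm a e, he.1, he.2,
              add_zero, add_zero, add_zero]
          have hne : P.qf (b + a) ≠ 0 := by rw [hu]; exact one_ne_zero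
          have hne' : P.qf (b + a + e) ≠ 0 := by rw [huw]; exact one_ne_zero
          refine ⟨⟨sg b e 0 * A, P.iso.mul_mem (sg_mem_iso P.qf_add P.qf_b he.2 (by rw [P.qf_of_mem he, hφe]))
            (P.gen_le_iso hAg)⟩, Subgroup.subset_closure ⟨b + a, b + a + e, hne, hne', ?_⟩, rfl⟩
          rw [← P.refl_eq hne, ← P.refl_eq hne', ← map_mul]
          refine congrArg (isoGroupEquiv P.qf) (Subtype.ext ?_)
          rw [Subgroup.coe_mul]
          refine gl_ext_mulVec fun x => ?_
          show act _ x = act _ x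
          rw [act_mul, hAd, act_sg he.1, act_sg he.2]
          simp only [act, mul_mulVec, stv_mulVec, hu, huw, inv_one, one_mul, form_add_left, form_add_right,
            form_smul_left, form_self, P.hab, P.hba, he.1, he.2, fm_comm a e, fm_comm b e]
          match_scalars <;> ring_nf <;> (try simp [(two_zero : (2 : F) = 0), (three_one : (3 : F) = 1), (four_zero : (4 : F) = 0)])
        by_cases hwe : w = e
        · rw [hk, hwe]; exact hBA
        · have hm := Submodule.add_mem _ hw he
          have hfe := hzero w hw hk hw0 hwe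
          have hv : φ (w + e) = 1 := by rw [P.add _ hw _ he, hk, hφe, hfe, zero_add, zero_add]
          have h1 := hnz b P.qf_b _ hm.2 hm (by rw [hv]; exact one_ne_zero)
          rw [hv] at h1
          have h2 := S.mul_mem h1 hBA
          rwa [← mul_assoc, sg_mul hm.2 he.2, add_zero, form_add_left, hfe, form_self, add_zero,
            CharTwo.add_self_eq_zero, add_add_cancel, ← hk] at h2
      · exact Or.inl (hnz b P.qf_b w hw.2 hw hk)
  intro m hm h
  obtain ⟨hmO, hmS | hmA⟩ := hgen hm
  · exact hSeven m hmS h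
  obtain ⟨k, hk, hke⟩ := hmA
  have hmk : (⟨m, h⟩ : P.iso) = k * ⟨A, P.gen_le_iso hAg⟩ := Subtype.ext (by
    show m = (k : G) * A
    rw [show (k : G) = m * A from hke, mul_assoc, hAA, mul_one])
  rw [hmk, map_mul]
  have hA2 : Even (Module.finrank F (fixSp (isoGroupEquiv P.qf ⟨A, P.gen_le_iso hAg⟩))) := by
    have hr : LinearMap.range (Units.val A - 1).mulVecLin = Submodule.span F {e, a} := by
      have hA : ∀ x, (Units.val A - 1).mulVecLin x = fm x a • e + fm x e • a := fun x => by
        rw [mulVecLin_apply, sub_mulVec, Matrix.one_mulVec, show Units.val A *ᵥ x = act (sg a e 0) x from rfl,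
          act_sg he.1, zero_smul, add_zero]
        abel
      refine le_antisymm ?_ (Submodule.span_le.2 ?_)
      · rintro _ ⟨x, rfl⟩
        rw [hA]
        exact Submodule.mem_span_pair.2 ⟨_, _, rfl⟩
      · obtain ⟨y, hy, hey⟩ := exists_partner P.hab he he0
        rintro _ (rfl | rfl)
        · exact ⟨b, by rw [hA, P.hba, fm_comm b _, he.2, one_smul, zero_smul, add_zero]⟩
        · exact ⟨y, by rw [hA, hy.1, fm_comm y e, hey, zero_smul, one_smul, zero_add]⟩
    have hli : LinearIndependent F ![e, a] := by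
      refine LinearIndependent.pair_iff.2 fun s t hst => ?_
      have h1 := congrArg (fun v => fm v b) hst
      simp [form_add_left, form_smul_left, form_zero_left, he.2, P.hab] at h1
      subst h1
      rw [zero_smul, add_zero] at hst
      exact ⟨(smul_eq_zero.1 hst).resolve_right he0, rfl⟩
    have h2 : (Units.val A - 1).rank = 2 := by
      rw [Matrix.rank, hr]
      have := finrank_span_eq_card hli
      rwa [Matrix.range_cons, Matrix.range_cons, Matrix.range_empty, Set.union_empty, Set.singleton_union,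
        Fintype.card_fin] at this
    have h3 := fixSp_isoEquiv_rank (⟨A, P.gen_le_iso hAg⟩ : P.iso)
    dsimp only at h3
    rw [Nat.even_iff]
    omega
  have hmul : ∀ g ∈ pairGroup P.qf, ∀ x : oGroup P.qf, Even (Module.finrank F (fixSp x)) →
      Even (Module.finrank F (fixSp (g * x))) := by
    intro g hg
    induction hg using Subgroup.closure_induction_left with
    | one => intro x hx; rwa [one_mul]
    | mul_left u hu y _ hy =>
      obtain ⟨p, q, hp, hq, rfl⟩ := hu
      intro x hx
      have h0 := hy x hx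
      rw [mul_assoc, mul_assoc]
      rcases finrank_fixSp_refl_mul P.nondeg (refl P.qf q * (y * x)) hp with h1 | h1 <;>
        rcases finrank_fixSp_refl_mul P.nondeg (y * x) hq with h2 | h2 <;>
        · rw [Nat.even_iff] at h0 ⊢
          omega
    | inv_mul_cancel u hu y _ hy =>
      obtain ⟨p, q, hp, hq, rfl⟩ := hu
      intro x hx
      have h0 := hy x hx
      rw [_root_.mul_inv_rev, refl_inv, refl_inv, mul_assoc, mul_assoc]
      rcases finrank_fixSp_refl_mul P.nondeg (refl P.qf p * (y * x)) hq with h1 | h1 <;>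
        rcases finrank_fixSp_refl_mul P.nondeg (y * x) hp with h2 | h2 <;>
        · rw [Nat.even_iff] at h0 ⊢
          omega
  exact hmul _ hk _ hA2

/-- A transitive group containing a pair does not have order `60`. -/
theorem Pair.card_ne (P : Pair L a b φ) (ha : Sec L a φ) (hn2 : n = 2) (hq : Fintype.card F = 2)
    (htr : ∀ x : E, x ≠ 0 → ∃ g ∈ L, act g a = x) : Nat.card L ≠ 60 := by
  classical
  intro h60
  have hn : 2 ≤ n := by omega
  have hF := two_elems hq
  by_cases hell : ∀ w ∈ perp2 a b, φ w = 0 → w = 0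
  · obtain ⟨e, he, h', hh', heh⟩ := exists_pair hn P.hab
    have he0 : e ≠ 0 := fun h => by simp [h, form_zero_left] at heh
    have hh0 : h' ≠ 0 := fun h => by simp [h, form_zero_right] at heh
    have f1 : φ e = 1 := (hF _).resolve_left fun h => he0 (hell e he h)
    have f2 : φ h' = 1 := (hF _).resolve_left fun h => hh0 (hell h' hh' h)
    obtain hflip : ∀ v ∈ perp2 a b, φ v = 1 → ∃ k ∈ L, k * k = 1 ∧ act k a = b ∧
        ∀ x ∈ perp2 a b, act k x = x + fm x v • v := by
      intro v hv hφv
      have hA : sg a v (1 : F) ∈ L := by have := P.memA v hv; rwa [hφv] at this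
      have hB : sg b v (1 : F) ∈ L := by have := P.memB v hv; rwa [hφv] at this
      refine ⟨_, L.mul_mem (L.mul_mem hA hB) hA, ?_, ?_, fun x hx => ?_⟩
      · rw [show sg a v (1 : F) * sg b v 1 * sg a v 1 * (sg a v 1 * sg b v 1 * sg a v 1) =
          sg a v (1 : F) * sg b v 1 * (sg a v 1 * sg a v 1) * sg b v 1 * sg a v 1 by group,
          sg_mul_sg hv.1, CharTwo.add_self_eq_zero, stv_zero_right, mul_one,
          mul_assoc (sg a v (1 : F)) (sg b v 1) (sg b v 1), sg_mul_sg hv.2, CharTwo.add_self_eq_zero,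
          stv_zero_right, mul_one, sg_mul_sg hv.1, CharTwo.add_self_eq_zero, stv_zero_right]
      · rw [act_mul, act_mul, act_sg hv.1, act_sg hv.2, act_sg hv.1]
        simp only [form_add_left, form_smul_left, form_self, P.hab, P.hba, fm_comm a v, fm_comm b v, hv.1, hv.2]
        match_scalars <;> ring_nf <;> (try simp [(two_zero : (2 : F) = 0), (three_one : (3 : F) = 1), (four_zero : (4 : F) = 0)])
      · rw [act_mul, act_mul, act_sg hv.1, act_sg hv.2, act_sg hv.1]
        simp only [form_add_left, form_smul_left, form_self, P.hab, P.hba, fm_comm a v, fm_comm b v, hx.1, hx.2,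
          hv.1, hv.2]
        match_scalars <;> ring_nf <;> (try simp [(two_zero : (2 : F) = 0), (three_one : (3 : F) = 1), (four_zero : (4 : F) = 0)])
    obtain ⟨k1, hk1, hk11, hk1a, hk1w⟩ := hflip e he f1
    obtain ⟨k2, hk2, hk22, hk2a, hk2w⟩ := hflip h' hh' f2
    have hj := L.mul_mem hk1 hk2
    have hb1 : act k1 b = a := by rw [← hk1a, ← act_mul, hk11, act_one]
    have hb2 : act k2 b = a := by rw [← hk2a, ← act_mul, hk22, act_one]
    have hja : act (k1 * k2) a = a := by rw [act_mul, hk2a, hb1]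
    have hjb : act (k1 * k2) b = b := by rw [act_mul, hb2, hk1a]
    obtain ⟨w, hw, hjw⟩ := stab_eq_grp hn2 hq ha P.hab htr h60 hj hja
    rw [hjw, act_sg_b P.hab hw] at hjb
    have hw0 : w = 0 := by
      have := congrArg (pj a b) hjb
      rwa [pj_add, pj_add, pj_smul, pj_of_mem hw, show pj a b b = 0 by simp [pj, form_self, P.hba, add_self],
        show pj a b a = 0 by simp [pj, form_self, P.hab, add_self], smul_zero, add_zero, zero_add] at this
    rw [hw0, P.zero, sg_zero, stv_zero_right] at hjw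
    have e1 := congrArg (fun g : G => act g e) hjw
    simp only [act_mul, act_one, hk2w e he, hk1w _ (Submodule.add_mem _ he (Submodule.smul_mem _ _ hh'))] at e1
    simp [form_add_left, form_smul_left, form_self, heh, fm_comm h' e] at e1
    have e2 := congrArg (fun v => fm v h') e1
    simp [form_add_left, form_zero_left, form_self, heh] at e2
  · push Not at hell
    obtain ⟨e, he, hφe, he0⟩ := hell
    obtain ⟨w1, hw1, hew1⟩ := exists_partner P.hab he he0
    obtain ⟨h', hh', heh, hφh⟩ : ∃ h' ∈ perp2 a b, fm e h' = 1 ∧ φ h' = 0 := by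
      rcases hF (φ w1) with h | h
      · exact ⟨w1, hw1, hew1, h⟩
      · refine ⟨w1 + e, Submodule.add_mem _ hw1 he, by rw [form_add_right, hew1, form_self, add_zero], ?_⟩
        rw [P.add _ hw1 _ he, h, hφe, fm_comm w1 e, hew1, add_zero, CharTwo.add_self_eq_zero]
    have hsing : ∀ x ∈ ({a, b, e, h', a + e, b + e} : Finset E), P.qf x = 0 ∧ x ≠ 0 := by
      intro x hx
      simp only [Finset.mem_insert, Finset.mem_singleton] at hx
      rcases hx with rfl | rfl | rfl | rfl | rfl | rfl
      · exact ⟨P.qf_a, fun h => by simpa [h, form_zero_left] using P.hab⟩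
      · exact ⟨P.qf_b, fun h => by simpa [h, form_zero_right] using P.hab⟩
      · exact ⟨by rw [P.qf_of_mem he, hφe], he0⟩
      · exact ⟨by rw [P.qf_of_mem hh', hφh], fun h => by simp [h, form_zero_right] at heh⟩
      · refine ⟨by rw [P.qf_add, P.qf_a, P.qf_of_mem he, hφe, fm_comm a e, he.1, add_zero, add_zero], fun h => ?_⟩
        have := congrArg (fun v => fm v b) h
        simp [form_add_left, form_zero_left, P.hab, he.2] at this
      · refine ⟨by rw [P.qf_add, P.qf_b, P.qf_of_mem he, hφe, fm_comm b e, he.2, add_zero, add_zero], fun h => ?_⟩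
        have := congrArg (fun v => fm v a) h
        simp [form_add_left, form_zero_left, P.hba, he.1] at this
    set sig : E → F × F × F × F := fun x => (fm x a, fm x b, fm x e, fm x h') with hsig
    have hcard : ({a, b, e, h', a + e, b + e} : Finset E).card = 6 := by
      have h6 : ({a, b, e, h', a + e, b + e} : Finset E).image sig =
          {(0, 1, 0, 0), (1, 0, 0, 0), (0, 0, 0, 1), (0, 0, 1, 0), (0, 1, 0, 1), (1, 0, 0, 1)} := by
        simp [hsig, Finset.image_insert, form_add_left, form_self, P.hab, P.hba, he.1, he.2, hh'.1, hh'.2,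
          fm_comm a e, fm_comm b e, fm_comm a h', fm_comm b h', heh, fm_comm h' e]
      have h7 := Finset.card_image_le (s := ({a, b, e, h', a + e, b + e} : Finset E)) (f := sig)
      rw [h6] at h7
      have h8 : ({(0, 1, 0, 0), (1, 0, 0, 0), (0, 0, 0, 1), (0, 0, 1, 0), (0, 1, 0, 1), (1, 0, 0, 1)} :
          Finset (F × F × F × F)).card = 6 := by simp
      have h9 := Finset.card_le_six (a := a) (b := b) (c := e) (d := h') (e := a + e) (f := b + e)
      omega
    have h1 := card_eq_orbit_mul_stab P.gen a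
    have hdiv : Nat.card P.gen ∣ 60 := h60 ▸ Subgroup.card_dvd_of_le P.gen_le
    have hs4 : 4 ∣ Nat.card (stabOf P.gen a) := by
      have hc := ha.card_grp P.hab
      rw [Nat.card_eq_fintype_card (α := F), hq, show 2 * n - 2 = 2 by omega] at hc
      norm_num at hc
      rw [← hc, ← Nat.card_eq_fintype_card]
      refine Subgroup.card_dvd_of_le (H := ha.grp P.hab) (K := stabOf P.gen a) fun g hg => ⟨?_, (ha.act_of_grp P.hab hg).2⟩
      obtain ⟨w, hw, rfl⟩ := hg
      exact P.memA_gen hw
    have hlo : 6 ≤ Nat.card {x : E // ∃ g ∈ P.gen, act g a = x} := by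
      rw [← hcard, ← Nat.card_eq_finsetCard]
      exact Nat.card_le_card_of_injective
        (fun x => (⟨x.1, P.move_sing hn (hsing x.1 x.2).2 (hsing x.1 x.2).1⟩ :
          {x : E // ∃ g ∈ P.gen, act g a = x}))
        (fun x y h => Subtype.ext (congrArg Subtype.val h :))
    have hhi : Nat.card {x : E // ∃ g ∈ P.gen, act g a = x} < 15 := by
      have ha0 : a ≠ 0 := fun h => by simpa [h, form_zero_left] using P.hab
      have hc0 : b + a ≠ 0 := fun h => by
        have := congrArg (fun v => fm v a) h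
        simp [form_add_left, form_zero_left, form_self, P.hba] at this
      have h15 : Nat.card {x : E // x ≠ 0} = 15 := by
        haveI := Fintype.ofFinite E
        have h16 : Nat.card E = 16 := by
          rw [Nat.card_fun, Nat.card_eq_fintype_card (α := F), hq, hn2, Nat.card_sum, Nat.card_fin]
          rfl
        rw [Nat.card_eq_fintype_card] at h16 ⊢
        rw [Fintype.card_subtype_compl, Fintype.card_subtype_eq, h16]
      rw [← h15]
      refine Nat.lt_of_le_of_ne (Nat.card_le_card_of_injective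
        (fun x => (⟨x.1, by
          obtain ⟨g, hg, e'⟩ := x.2
          exact fun h => ha0 (by rw [← act_inv' g a, e', h]; simp [act])⟩ : {x : E // x ≠ 0}))
        (fun x y h => Subtype.ext (congrArg Subtype.val h :))) fun heq => ?_
      obtain ⟨x, hx⟩ := ((Nat.bijective_iff_injective_and_card
        (fun x : {x : E // ∃ g ∈ P.gen, act g a = x} => (⟨x.1, by
          obtain ⟨g, hg, e'⟩ := x.2
          exact fun h => ha0 (by rw [← act_inv' g a, e', h]; simp [act])⟩ : {x : E // x ≠ 0}))).2
        ⟨fun x y h => Subtype.ext (congrArg Subtype.val h :), heq⟩).2 ⟨b + a, hc0⟩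
      have hxe : x.1 = b + a := congrArg Subtype.val hx
      obtain ⟨g, hg, e'⟩ := x.2
      have h0 : P.qf (b + a) = 0 := by rw [← hxe, ← e', mem_iso.1 (P.gen_le_iso hg), P.qf_a]
      have h1' := P.qf_ba (1 : F)
      rw [one_smul, h0] at h1'
      exact zero_ne_one h1'
    obtain ⟨k, hk⟩ := hs4
    rw [h1, hk] at hdiv
    set o := Nat.card {x : E // ∃ g ∈ P.gen, act g a = x}
    have ho : o ∣ 15 := by
      have : o * 4 ∣ 15 * 4 := dvd_trans ⟨k, by ring⟩ hdiv
      exact Nat.dvd_of_mul_dvd_mul_right (by norm_num) this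
    have : ∀ m ≤ 15, m ∣ 15 → 6 ≤ m → m = 15 := by decide
    exact absurd (this o hhi.le ho hlo) (Nat.ne_of_lt hhi)

end CfsgLib.TvFree
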