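import Cfsg.Agent.TvFree.Plane
import Cfsg.Agent.Quad.Parity

/-!
# Groups with a section that contain a transvection
-/

set_option autoImplicit false
set_option linter.unusedSectionVars false

namespace CfsgLib.TvFree

open Matrix Cfsg CfsgLib.Geo CfsgLib.Geo.SpTv
open CfsgLib.Symp (form form_add_left form_add_right form_smul_left form_smul_right form_self
  form_zero_left form_zero_right)

variable {n : ℕ} {F : Type*} [Field F] [CharP F 2]

local notation "E" => Fin n ⊕ Fin n → F
local notation "G" => GL (Fin n ⊕ Fin n) F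
local notation "fm" => CfsgLib.Symp.form (l := Fin n) (R := F)

/-- Irreducibility on column vectors. -/
def Irr (L : Subgroup (GL (Fin n ⊕ Fin n) F)) : Prop :=
  ∀ W : Submodule F (Fin n ⊕ Fin n → F), (∀ g ∈ L, ∀ w ∈ W, act g w ∈ W) → W = ⊥ ∨ W = ⊤

theorem Irr.exists_moved {L : Subgroup G} (hI : Irr L) {a v : E} (ha : a ≠ 0) (hv : v ≠ 0) :
    ∃ g ∈ L, fm a (act g v) ≠ 0 := by
  by_contra hc
  push Not at hc
  have hle : Submodule.span F {u | ∃ g ∈ L, act g v = u} ≤ perp (F ∙ a) := by
    refine Submodule.span_le.2 ?_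
    rintro _ ⟨g, hg, rfl⟩ x hx
    obtain ⟨t, rfl⟩ := Submodule.mem_span_singleton.1 hx
    rw [form_smul_left, hc g hg, mul_zero]
  rcases hI (Submodule.span F {u | ∃ g ∈ L, act g v = u}) (fun k hk w hw => by
      induction hw using Submodule.span_induction with
      | mem u hu =>
        obtain ⟨g, hg, rfl⟩ := hu
        exact Submodule.subset_span ⟨k * g, L.mul_mem hk hg, act_mul k g v⟩
      | zero => simp [act]
      | add u w _ _ h1 h2 => rw [act_add]; exact Submodule.add_mem _ h1 h2
      | smul c u _ h1 => rw [act_smul]; exact Submodule.smul_mem _ _ h1) with h | h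
  · exact hv ((Submodule.mem_bot F).1 (h ▸ Submodule.subset_span ⟨1, L.one_mem, act_one v⟩))
  · obtain ⟨x, hx⟩ := CfsgLib.Symp.exists_form_eq_one ha
    have h1 := hle (h ▸ (Submodule.mem_top : x ∈ (⊤ : Submodule F E))) a (Submodule.mem_span_singleton_self a)
    exact one_ne_zero (hx.symm.trans h1)

theorem perp2_shift {a b w : E} (t : F) (hw : w ∈ perp2 a b) : w ∈ perp2 a (b + t • a) :=
  ⟨hw.1, by rw [form_add_right, form_smul_right, hw.1, hw.2, mul_zero, add_zero]⟩

theorem tv_mul_tv {a w : E} (h : fm w a = 0) (s α : F) :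
    stv (w + s • a) α * stv w α = sg a ((α * s) • w) (α * s ^ 2) := by
  refine gl_ext_mulVec fun u => ?_
  show act _ u = act _ u
  rw [act_sg (by rw [form_smul_left, h, mul_zero])]
  simp only [act, mul_mulVec, stv_mulVec, form_add_left, form_smul_left, form_add_right, form_smul_right,
    form_self, h, fm_comm a w]
  match_scalars <;> ring_nf <;> simp [two_zero]

variable {L : Subgroup (GL (Fin n ⊕ Fin n) F)} {a b : Fin n ⊕ Fin n → F} {φ : (Fin n ⊕ Fin n → F) → F}

theorem stv_conj_mem (hLs : L ≤ spGL n F) {g : G} (hg : g ∈ L) {v : E} {c : F} (h : stv v c ∈ L) :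
    stv (act g v) c ∈ L := by
  rw [act, ← stv_conj (hLs hg)]
  exact L.mul_mem (L.mul_mem hg h) (L.inv_mem hg)

theorem act_sg_b (hab : fm a b = 1) {w : E} (hw : w ∈ perp2 a b) (c : F) :
    act (sg a w c) b = b + w + c • a := by
  rw [act_sg hw.1, fm_comm b a, hab, fm_comm b w, hw.2, one_smul, zero_smul, add_zero, add_assoc]

/-- A section at `a` and full centres `a` and a transvection through a second centre give everything. -/
theorem top_of_full (hLs : L ≤ spGL n F) (h : Sec L a φ) (hab : fm a b = 1) (hfa : Full L a) {α : F}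
    (hα : α ≠ 0) (hg : stv b α ∈ L) : spGL n F ≤ L := by
  have hfb : Full L b := by
    have h1 := full_conj hLs hfa hg
    rw [stv_mulVec, hab, mul_one] at h1
    have h2 := full_conj hLs h1 (hfa α⁻¹)
    rw [stv_mulVec, form_add_left, form_self, zero_add, form_smul_left, fm_comm b a, hab, mul_one,
      inv_mul_cancel₀ hα, one_smul, add_comm a (α • b), add_add_cancel] at h2
    have h3 := full_smul h2 α⁻¹
    rwa [smul_smul, inv_mul_cancel₀ hα, one_smul] at h3
  have h1 : ∀ w ∈ perp2 a b, ∀ t : F, Full L (b + w + t • a) := fun w hw t => by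
    have h2 := full_conj hLs hfb (h.mem w hw.1)
    rw [show (sg a w (φ w) : Matrix _ _ F) *ᵥ b = b + w + φ w • a from act_sg_b hab hw (φ w)] at h2
    have h3 := full_add_smul hLs hfa h2 (by
      simp [form_add_left, form_smul_left, form_self, hw.1, fm_comm b a, hab]) (t + φ w)
    rwa [show b + w + φ w • a + (t + φ w) • a = b + w + t • a by
      match_scalars <;> ring_nf <;> simp [two_zero]] at h3
  have h2 : ∀ x, fm x a = 1 → Full L x := fun x hx => by
    have := h1 _ (pj_mem hab x) (fm x b)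
    rwa [show b + pj a b x + fm x b • a = x by
      conv_rhs => rw [pj_decomp (a := a) (b := b) x, hx, one_smul]
      abel] at this
  have h3 : ∀ x, fm x a ≠ 0 → Full L x := fun x hx => by
    have := full_smul (h2 ((fm x a)⁻¹ • x) (by rw [form_smul_left, inv_mul_cancel₀ hx])) (fm x a)
    rwa [smul_smul, mul_inv_cancel₀ hx, one_smul] at this
  refine spGL_le_of_full fun x => ?_
  by_cases hx : fm x a = 0
  · by_cases hxa : x ∈ F ∙ a
    · obtain ⟨t, rfl⟩ := Submodule.mem_span_singleton.1 hxa
      exact full_smul hfa t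
    · obtain ⟨y, hy, hxy⟩ := exists_form_of_notMem (F ∙ a) hxa
      have hya : fm a y = 0 := hy a (Submodule.mem_span_singleton_self a)
      have hv : fm (b + (1 + fm x b) • y) a = 1 := by
        simp [form_add_left, form_smul_left, fm_comm b a, hab, fm_comm y a, hya]
      have hxv : fm x (b + (1 + fm x b) • y) = 1 := by
        rw [form_add_right, form_smul_right, hxy, mul_one]
        ring_nf
        simp [two_zero]
      have := full_add hLs (h2 _ hv) (h2 (x + (b + (1 + fm x b) • y)) (by rw [form_add_left, hx, hv, zero_add]))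
        (by rw [form_add_left, form_self, add_zero, hxv]; exact one_ne_zero)
      rwa [add_add_cancel] at this
  · exact h3 x hx

/-- Shifting a transvection inside the pencil at `a`. -/
theorem tv_shift (hLs : L ≤ spGL n F) (h : Sec L a φ) (hab : fm a b = 1) {α : F} (hg : stv b α ∈ L)
    {w : E} (hw : w ∈ perp2 a b) (he : 1 + α * φ w ≠ 0) :
    ∃ t : F, stv (b + t • a) (α * (1 + α * φ w) ^ 2) ∈ L := by
  set D := φ w
  set e := 1 + α * D
  set ρ := α * D / e
  have h1 := stv_conj_mem hLs (h.mem w hw.1) hg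
  rw [act_sg_b hab hw] at h1
  have h2 := stv_conj_mem hLs h1 hg
  have hgb : act (stv (b + w + D • a) α) b = e • (b + ρ • w + (ρ * D) • a) := by
    simp only [act, stv_mulVec, form_add_right, form_smul_right, form_self, fm_comm b w, hw.2,
      fm_comm b a, hab, zero_add, mul_one]
    match_scalars <;> simp only [ρ, e] at * <;> field_simp
  rw [hgb, stv_smul] at h2
  have hρw : ρ • w ∈ perp2 a b := Submodule.smul_mem _ _ hw
  have h3 := stv_conj_mem hLs (h.mem _ hρw.1) h2
  have haw : fm a w = 0 := (fm_comm a w).trans hw.1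
  have e3 : act (sg a (ρ • w) (φ (ρ • w))) (b + ρ • w + (ρ * D) • a) = b + (φ (ρ • w) + ρ * D) • a := by
    rw [act_sg hρw.1]
    simp only [form_add_left, form_smul_left, form_smul_right, form_self, fm_comm b a, hab, hw.1, fm_comm b w,
      hw.2, haw]
    match_scalars <;> ring_nf <;> simp [two_zero]
  refine ⟨φ (ρ • w) + ρ * D, ?_⟩
  rwa [e3, mul_comm (e ^ 2) α] at h3

/-- The defect of homogeneity gives transvections at `a`. -/
theorem tv_square (hLs : L ≤ spGL n F) (h : Sec L a φ) (hab : fm a b = 1) {α : F} (hg : stv b α ∈ L)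
    {w : E} (hw : w ∈ perp2 a b) (he : α * φ w = 1) (μ : F) :
    stv a (φ (μ • w) + μ ^ 2 * φ w) ∈ L := by
  set D := φ w
  have hw0 : w ≠ 0 := fun h0 => by
    simp [D, h0, h.zero] at he
  have h1 := stv_conj_mem hLs (h.mem w hw.1) hg
  rw [act_sg_b hab hw] at h1
  have h2 := stv_conj_mem hLs h1 hg
  have hgb : act (stv (b + w + D • a) α) b = w + D • a := by
    simp only [act, stv_mulVec, form_add_right, form_smul_right, form_self, fm_comm b w, hw.2,
      fm_comm b a, hab, zero_add, mul_one]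
    rw [he, one_smul, show b + (b + w + D • a) = b + b + (w + D • a) by abel, add_self, zero_add]
  rw [hgb] at h2
  obtain ⟨v, hv, hwv⟩ := exists_partner hab hw hw0
  have hs : ∀ s : F, stv (w + s • a) α ∈ L := fun s => by
    have hv' : (s + D) • v ∈ perp2 a b := Submodule.smul_mem _ _ hv
    have h3 := stv_conj_mem hLs (h.mem _ hv'.1) h2
    rwa [act_add, act_smul, act_sg hv'.1, act_sg hv'.1, hw.1, form_self a, form_smul_right, hwv,
      fm_comm a ((s + D) • v), hv'.1, zero_smul, zero_smul, add_zero, add_zero, add_zero, mul_one,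
      add_assoc, ← add_smul, add_assoc, CharTwo.add_self_eq_zero, add_zero] at h3
  have h4 := L.mul_mem (hs (μ * D)) (by simpa using hs 0 : stv w α ∈ L)
  rw [tv_mul_tv hw.1, show α * (μ * D) = μ by linear_combination μ * he,
    show α * (μ * D) ^ 2 = μ ^ 2 * D by linear_combination (μ ^ 2 * D) * he] at h4
  have h5 := L.mul_mem (h.mem _ (Submodule.smul_mem (perp2 a b) μ hw).1) h4
  rwa [sg_mul_sg (Submodule.smul_mem (perp2 a b) μ hw).1] at h5

variable [Finite F]

theorem exists_sq (c : F) : ∃ e : F, e ^ 2 = c := by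
  obtain ⟨e, he⟩ := CfsgLib.Quad.isSquare_char_two c
  exact ⟨e, by rw [he, sq]⟩

/-- A section and a transvection give the whole group or a homogeneous pair. -/
theorem transvection_case (hn : 2 ≤ n) (hLs : L ≤ spGL n F) (hI : Irr L) (h : Sec L a φ) (ha : a ≠ 0)
    (hT : ¬ NoTv L) :
    spGL n F ≤ L ∨ ∃ b α, α ≠ 0 ∧ Pair L a b φ ∧ stv (b + α⁻¹ • a) α ∈ L := by
  classical
  simp only [NoTv, not_forall] at hT
  obtain ⟨v, c, hvL, hv1⟩ := hT
  obtain ⟨hv, hc⟩ := stv_ne_one hv1
  obtain ⟨g, hg, hgv⟩ := hI.exists_moved ha hv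
  set f := fm a (act g v) with hf
  set b := f⁻¹ • act g v with hbdef
  have hab : fm a b = 1 := by rw [hbdef, form_smul_right, ← hf, inv_mul_cancel₀ hgv]
  set α := f ^ 2 * c
  have hα : α ≠ 0 := mul_ne_zero (pow_ne_zero 2 hgv) hc
  have hb : stv b α ∈ L := by
    have := stv_conj_mem hLs hg hvL
    rwa [show act g v = f • b by rw [hbdef, smul_smul, mul_inv_cancel₀ hgv, one_smul], stv_smul] at this
  set Δ : F → E → F := fun μ w => φ (μ • w) + μ ^ 2 * φ w with hΔ
  have hne : ∀ μ, ∀ w ∈ perp2 a b, φ w ≠ 0 → stv a (Δ μ w) ∈ L := by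
    intro μ w hw hD
    obtain ⟨e, he⟩ := exists_sq ((φ w)⁻¹ / α)
    have he0 : e ≠ 0 := by
      rintro rfl
      rw [zero_pow two_ne_zero] at he
      exact div_ne_zero (inv_ne_zero hD) hα he.symm
    obtain ⟨w0, hw0, hw0e⟩ := h.surj hn hab ((1 + e) / α)
    have he' : 1 + α * φ w0 = e := by
      rw [hw0e, mul_div_cancel₀ _ hα, ← add_assoc, CharTwo.add_self_eq_zero, zero_add]
    obtain ⟨t, ht⟩ := tv_shift hLs h hab hb hw0 (by rwa [he'])
    rw [he', he, mul_div_cancel₀ _ hα] at ht
    exact tv_square hLs h (by rw [form_add_right, hab, form_smul_right, form_self, mul_zero, add_zero])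
      ht (perp2_shift t hw) (inv_mul_cancel₀ hD) μ
  have hadd : ∀ μ, ∀ u ∈ perp2 a b, ∀ w ∈ perp2 a b, Δ μ (u + w) = Δ μ u + Δ μ w := by
    intro μ u hu w hw
    simp only [hΔ, smul_add]
    rw [h.add _ _ (Submodule.smul_mem _ μ hu).1 (Submodule.smul_mem _ μ hw).1, h.add _ _ hu.1 hw.1,
      form_smul_left, form_smul_right]
    ring_nf
    simp [two_zero]
  have hall : ∀ μ, ∀ w ∈ perp2 a b, stv a (Δ μ w) ∈ L := by
    intro μ w hw
    by_cases hD : φ w = 0
    · by_cases hν : ∀ ν : F, φ (ν • w) = 0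
      · simp only [hΔ, hν μ, hD, mul_zero, add_zero, stv_zero_right]
        exact L.one_mem
      · push Not at hν
        obtain ⟨ν, hν⟩ := hν
        have hu := Submodule.smul_mem (perp2 a b) ν hw
        have hwu : φ (w + ν • w) ≠ 0 := by
          rwa [h.add _ _ hw.1 hu.1, hD, form_smul_right, form_self, mul_zero, add_zero, zero_add]
        have h1 := L.mul_mem (hne μ _ (Submodule.add_mem _ hw hu) hwu) (hne μ _ hu hν)
        rwa [stv_add, hadd μ w hw _ hu, add_assoc, CharTwo.add_self_eq_zero, add_zero] at h1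
    · exact hne μ w hw hD
  by_cases hz : ∀ μ, ∀ w ∈ perp2 a b, Δ μ w = 0
  · right
    refine ⟨b + α⁻¹ • a, α, hα, ?_, by rwa [add_add_cancel]⟩
    have hga : act (stv b α) a = α • (b + α⁻¹ • a) := by
      simp only [act, stv_mulVec, hab, mul_one, smul_add, smul_smul, mul_inv_cancel₀ hα, one_smul]
      rw [add_comm]
    have hb0 := ((h.conj hLs hb).smul (inv_ne_zero hα))
    rw [hga, smul_smul, inv_mul_cancel₀ hα, one_smul] at hb0
    have hsm : ∀ μ : F, ∀ w ∈ perp2 a b, φ (μ • w) = μ ^ 2 * φ w := fun μ w hw =>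
      CharTwo.add_eq_zero.1 (hz μ w hw)
    have hback : ∀ {w}, w ∈ perp2 a (b + α⁻¹ • a) → w ∈ perp2 a b := fun {w} hw => by
      have := perp2_shift α⁻¹ hw
      rwa [add_add_cancel] at this
    refine ⟨by rw [form_add_right, hab, form_smul_right, form_self, mul_zero, add_zero],
      fun w hw => h.mem w hw.1, fun w hw => ?_, fun u hu v hv => h.add _ _ hu.1 hv.1,
      fun μ w hw => hsm μ w (hback hw)⟩
    have h1 := hb0.mem w hw.2
    have hfix : act (stv b α)⁻¹ (α⁻¹ • w) = α⁻¹ • w := by
      conv_lhs => rw [show α⁻¹ • w = act (stv b α) (α⁻¹ • w) by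
        simp [act, stv_mulVec, form_smul_left, (hback hw).2]]
      rw [act_inv']
    beta_reduce at h1
    rwa [hfix, hsm _ w (hback hw), mul_div_cancel_left₀ _ (pow_ne_zero 2 (inv_ne_zero hα))] at h1
  · left
    push Not at hz
    obtain ⟨μ0, w0, hw0, hz⟩ := hz
    set C := AddSubgroup.closure {d : F | ∃ μ, ∃ w ∈ perp2 a b, d = Δ μ w}
    have hC : ∀ d ∈ C, stv a d ∈ L := by
      intro d hd
      induction hd using AddSubgroup.closure_induction with
      | mem x hx => obtain ⟨μ, w, hw, rfl⟩ := hx; exact hall μ w hw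
      | zero => rw [stv_zero_right]; exact L.one_mem
      | add x y _ _ hx hy => rw [← stv_add]; exact L.mul_mem hx hy
      | neg x _ hx => rwa [CharTwo.neg_eq]
    refine top_of_full hLs h hab (fun d => hC d ?_) hα hb
    obtain ⟨m, hm⟩ := exists_sq (d / Δ μ0 w0)
    have e : d = Δ m (μ0 • w0) + Δ (m * μ0) w0 := by
      rw [show d = m ^ 2 * Δ μ0 w0 by rw [hm, div_mul_cancel₀ _ hz]]
      simp only [hΔ, smul_smul]
      ring_nf
      simp [two_zero]
    rw [e]
    exact C.add_mem (AddSubgroup.subset_closure ⟨m, _, Submodule.smul_mem _ _ hw0, rfl⟩)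
      (AddSubgroup.subset_closure ⟨_, w0, hw0, rfl⟩)

end CfsgLib.TvFree
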